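import Cfsg.Agent.Lib.ExactCover.Ker
import Mathlib.GroupTheory.SpecificGroups.Alternating
import Mathlib.GroupTheory.SpecificGroups.Cyclic

/-!
Checking maps onto alternating groups, and primes with cyclic Sylow subgroups.
-/

set_option autoImplicit false
set_option linter.style.haveILetI false

namespace Cfsg.Agent.Lib.ExactCover

open Equiv

/-- A permutation given by the list of its images. -/
def permOfList (m : ℕ) [NeZero m] (l l' : List ℕ)
    (h : ∀ i : Fin m, Fin.ofNat m (l'.getD (Fin.ofNat m (l.getD i.val 0)).val 0) = i ∧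
      Fin.ofNat m (l.getD (Fin.ofNat m (l'.getD i.val 0)).val 0) = i) : Perm (Fin m) where
  toFun i := Fin.ofNat m (l.getD i.val 0)
  invFun i := Fin.ofNat m (l'.getD i.val 0)
  left_inv i := (h i).1
  right_inv i := (h i).2

/-- A map into an alternating group whose image has all three-cycles is surjective. -/
theorem surjective_of_three_cycles {m : ℕ} {P : Type*} [Group P]
    (f : P →* alternatingGroup (Fin m))
    (h : ∀ a b c : Fin m, a ≠ b → b ≠ c → a ≠ c → ∃ p, (f p : Perm (Fin m)) = swap a b * swap b c) :
    Function.Surjective f := by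
  intro g
  have hle : alternatingGroup (Fin m) ≤ ((alternatingGroup (Fin m)).subtype.comp f).range := by
    conv_lhs => rw [← Equiv.Perm.closure_three_cycles_eq_alternating]
    rw [Subgroup.closure_le]
    intro σ hσ
    obtain ⟨a, ha⟩ := hσ.isCycle.nonempty_support
    have hnd := hσ.nodup_iff_mem_support.2 ha
    simp only [List.nodup_cons, List.mem_cons, List.not_mem_nil, or_false, not_or, not_false_eq_true,
      List.nodup_nil, and_true] at hnd
    obtain ⟨p, hp⟩ := h a (σ a) (σ (σ a)) hnd.1.1 hnd.2 hnd.1.2
    exact ⟨p, hp.trans (hσ.eq_swap_mul_swap_iff_mem_support.2 ha).symm⟩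
  obtain ⟨p, hp⟩ := hle g.2
  exact ⟨p, Subtype.ext hp⟩

/-- If `r` divides the order but `r²` does not, the Sylow subgroups at `r` are cyclic. -/
theorem sylow_cyclic_of_sq_not_dvd {G : Type*} [Group G] [Finite G] {r : ℕ} [Fact r.Prime]
    (h : ¬ r ^ 2 ∣ Nat.card G) (S : Sylow r G) : IsCyclic S := by
  have hc : Nat.card S = r ^ (Nat.card G).factorization r := S.card_eq_multiplicity
  have hle : (Nat.card G).factorization r ≤ 1 := by
    by_contra hgt
    exact h (((Nat.Prime.pow_dvd_iff_le_factorization Fact.out Nat.card_pos.ne').2 (by omega)))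
  rcases Nat.le_one_iff_eq_zero_or_eq_one.1 hle with e | e <;> rw [e] at hc
  · haveI : Subsingleton (S : Subgroup G) := (Nat.card_eq_one_iff_unique.1 (by simpa using hc)).1
    exact isCyclic_of_subsingleton
  · exact isCyclic_of_prime_card (p := r) (by simpa using hc)

/-- Orders of generators that are such primes are prime to the kernel of any stem extension. -/
theorem coprime_ker_of_sq_not_dvd {G : Type*} [Group G] [Finite G] {Γ : Type*} [Group Γ] [Finite Γ]
    (τ : Γ →* G) (hτ : Cfsg.IsStemExtension τ) {r : ℕ} (hr : r.Prime) (h : ¬ r ^ 2 ∣ Nat.card G) :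
    r.Coprime (Nat.card τ.ker) := by
  haveI : Fact r.Prime := ⟨hr⟩
  exact hr.coprime_iff_not_dvd.2
    (Multiplier.not_dvd_card_ker_of_cyclic τ hτ (sylow_cyclic_of_sq_not_dvd h))

end Cfsg.Agent.Lib.ExactCover
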