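import Cfsg.Agent.Lib.ExactCover.Rel

/-!
Kernels of covers, read off coset tables.

An observation of an element of the presented group is a tuple of images of base points in
permutation actions given by tables.  When observations separate the kernel, finitely many
scans prove that the kernel is central and isomorphic to a given abelian group.
-/

set_option autoImplicit false
set_option linter.style.haveILetI false

namespace Cfsg.Agent.Lib.ExactCover

open Cfsg.Agent.Lib.CosetEnum

variable {n : ℕ} [NeZero n] {R : List (List ℕ)}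

/-- The element of a word. -/
def el (R : List (List ℕ)) (l : List ℕ) : PresentedGroup (relSet n R) :=
  PresentedGroup.mk _ (word n l)

theorem el_append (l l' : List ℕ) : el (n := n) R (l ++ l') = el R l * el R l' := by
  rw [el, word_append, map_mul]; rfl

theorem el_cons (g : ℕ) (l : List ℕ) : el (n := n) R (g :: l) = el R [g] * el R l := by
  rw [el, word_cons, map_mul]; rfl

theorem el_nil : el (n := n) R [] = 1 := by rw [el, word_nil, map_one]

theorem el_invWord (l : List ℕ) : el (n := n) R (invWord l) = (el R l)⁻¹ := by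
  rw [el, word_invWord, map_inv]; rfl

theorem el_flip (g : ℕ) : el (n := n) R [flip g] = (el R [g])⁻¹ := by
  rw [el, word_flip, map_inv]; rfl

theorem el_replicate (k g : ℕ) : el (n := n) R (List.replicate k g) = el R [g] ^ k := by
  induction k with
  | zero => rw [List.replicate_zero, el_nil, pow_zero]
  | succ k ih => rw [List.replicate_succ, el_cons, ih, pow_succ']

theorem el_pos (i : Fin n) : el R [2 * i.val] = (PresentedGroup.of i : PresentedGroup (relSet n R)) := by
  have h : stdSym n (2 * i.val) = (i, true) := by simp [stdSym]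
  rw [el, word, List.map_cons, List.map_nil, h]; rfl

theorem mem_closure_el :
    Subgroup.closure {x : PresentedGroup (relSet n R) | ∃ g < 2 * n, el R [g] = x} = ⊤ := by
  rw [eq_top_iff, ← PresentedGroup.closure_range_of (relSet n R)]
  exact Subgroup.closure_mono fun x ⟨i, hi⟩ => ⟨2 * i.val, by omega, by rw [el_pos, hi]⟩

/-- An action on a table. -/
structure Act (n : ℕ) [NeZero n] (R : List (List ℕ)) (N : ℕ) (T : PTree) where
  pos : 0 < N
  ρ : PresentedGroup (relSet n R) →* Equiv.Perm (Fin N)
  step : ∀ g < 2 * n, ∀ i : Fin N, ((ρ (el R [g]))⁻¹ i).1 = get32 T (i.1 * (2 * n) + g)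

/-- The action of a table on which all relators act trivially. -/
theorem exists_act {IV : ℕ} {RL : List (List ℕ)} {N : ℕ} {T : PTree} (hN : 0 < N)
    (hok : (stdLetters n IV RL R).OK) (hT : TableOK (stdLetters n IV RL R) N T) :
    Nonempty (Act n R N T) := by
  refine ⟨⟨hN, PresentedGroup.toGroup (f := hT.genPerm)
    ((sameRels IV RL R).2 _ fun r hr => hT.lift_rel hok hr), fun g hg i => ?_⟩⟩
  change ((FreeGroup.lift hT.genPerm (FreeGroup.mk [(stdLetters n IV RL R).sym g]))⁻¹ i).1 = _
  rw [hT.lift_sym (show g < (stdLetters n IV RL R).K from hg)]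
  rfl

namespace Act

variable {N : ℕ} {T : PTree} (a : Act n R N T)

theorem scan_eq (l : List ℕ) (hl : ∀ g ∈ l, g < 2 * n) (i : Fin N) :
    ((a.ρ (el R l))⁻¹ i).1 = scan (2 * n) T l i.1 := by
  induction l generalizing i with
  | nil => rw [el_nil]; simp [scan]
  | cons g l ih =>
    rw [el_cons, map_mul, mul_inv_rev, Equiv.Perm.mul_apply,
      ih (fun x hx => hl x (List.mem_cons_of_mem _ hx)), a.step g (hl g List.mem_cons_self)]
    change scan (2 * n) T l (get32 T (i.1 * (2 * n) + g)) =
      force (get32 T (Nat.add (Nat.mul i.1 (2 * n)) g)) (scan (2 * n) T l)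
    rw [force_eq]; rfl

end Act

/-- An observation of elements, computable on words. -/
structure Obs (n : ℕ) [NeZero n] (R : List (List ℕ)) (X : Type) where
  val : PresentedGroup (relSet n R) → X
  onWord : List ℕ → X
  onWord_eq : ∀ l, (∀ g ∈ l, g < 2 * n) → val (el R l) = onWord l
  cong : ∀ x y, val x = val y → val (y * x⁻¹) = val 1

/-- The observation of one action. -/
noncomputable def Act.obs {N : ℕ} {T : PTree} (a : Act n R N T) : Obs n R ℕ where
  val x := ((a.ρ x)⁻¹ ⟨0, a.pos⟩).1
  onWord l := scan (2 * n) T l 0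
  onWord_eq l hl := a.scan_eq l hl ⟨0, a.pos⟩
  cong x y h := by
    have h' : (a.ρ x)⁻¹ ⟨0, a.pos⟩ = (a.ρ y)⁻¹ ⟨0, a.pos⟩ := Fin.ext h
    apply congrArg Fin.val
    rw [map_mul, map_inv, mul_inv_rev, inv_inv, Equiv.Perm.mul_apply, ← h', map_one, inv_one]
    simp

/-- Two observations together. -/
def Obs.prod {X Y : Type} (o : Obs n R X) (o' : Obs n R Y) : Obs n R (X × Y) where
  val x := (o.val x, o'.val x)
  onWord l := (o.onWord l, o'.onWord l)
  onWord_eq l hl := Prod.ext (o.onWord_eq l hl) (o'.onWord_eq l hl)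
  cong x y h := Prod.ext (o.cong x y (congrArg Prod.fst h)) (o'.cong x y (congrArg Prod.snd h))

variable {G : Type*} [Group G] (σ : PresentedGroup (relSet n R) →* G)

/-- Two words with the same image and the same observation denote the same element. -/
theorem el_eq {X : Type} (o : Obs n R X) (hsep : ∀ x ∈ σ.ker, o.val x = o.val 1 → x = 1)
    {l l' : List ℕ} (hl : ∀ g ∈ l, g < 2 * n) (hl' : ∀ g ∈ l', g < 2 * n)
    (hσ : σ (el R l) = σ (el R l') ) (ho : o.onWord l = o.onWord l') : el (n := n) R l = el R l' := by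
  have h := o.cong (el R l) (el R l') (by rw [o.onWord_eq l hl, o.onWord_eq l' hl', ho])
  have := hsep _ (by rw [MonoidHom.mem_ker, map_mul, map_inv, hσ, mul_inv_cancel]) h
  exact (mul_inv_eq_one.1 this).symm

omit [NeZero n] in
theorem flip_lt {g : ℕ} (hg : g < 2 * n) : flip g < 2 * n := by
  unfold flip; split <;> omega

omit [NeZero n] in
theorem invWord_lt {l : List ℕ} (hl : ∀ g ∈ l, g < 2 * n) : ∀ g ∈ invWord l, g < 2 * n := by
  intro g hg
  obtain ⟨x, hx, rfl⟩ := List.mem_map.1 (List.mem_reverse.1 hg)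
  exact flip_lt (hl x hx)

/-- The kernel is central and isomorphic to `A`. -/
theorem ker_spec [Finite (PresentedGroup (relSet n R))] {X : Type} (o : Obs n R X)
    (hsep : ∀ x ∈ σ.ker, o.val x = o.val 1 → x = 1) {A : Type} [CommGroup A] [Finite A]
    (hcard : Nat.card σ.ker ≤ Nat.card A) (w : A → List ℕ)
    (hlt : ∀ a, ∀ g ∈ w a, g < 2 * n) (hσw : ∀ a, σ (el R (w a)) = 1)
    (hinj : ∀ a b, o.onWord (w a) = o.onWord (w b) → a = b)
    (hmul : ∀ a b, o.onWord (w a ++ w b) = o.onWord (w (a * b)))
    (hcen : ∀ a, ∀ g < 2 * n, o.onWord (w a ++ [g] ++ invWord (w a) ++ [flip g]) = o.onWord []) :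
    Nonempty (σ.ker ≃* A) ∧ σ.ker ≤ Subgroup.center (PresentedGroup (relSet n R)) := by
  have happ : ∀ {l l' : List ℕ}, (∀ g ∈ l, g < 2 * n) → (∀ g ∈ l', g < 2 * n) →
      ∀ g ∈ l ++ l', g < 2 * n := fun h h' g hg => (List.mem_append.1 hg).elim (h g) (h' g)
  let f : A →* σ.ker := MonoidHom.mk' (fun a => ⟨el R (w a), MonoidHom.mem_ker.2 (hσw a)⟩) fun a b => by
    apply Subtype.ext
    show el R (w (a * b)) = el R (w a) * el R (w b)
    rw [← el_append]
    refine el_eq σ o hsep (hlt _) (happ (hlt a) (hlt b)) ?_ (hmul a b).symm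
    rw [el_append, map_mul, hσw, hσw, hσw, mul_one]
  have hfi : Function.Injective f := fun a b h => by
    refine hinj a b ?_
    have := congrArg (fun x : σ.ker => o.val x.1) h
    simpa [f, MonoidHom.mk'_apply, o.onWord_eq _ (hlt a), o.onWord_eq _ (hlt b)] using this
  have hfb : Function.Bijective f := hfi.bijective_of_nat_card_le hcard
  refine ⟨⟨(MulEquiv.ofBijective f hfb).symm⟩, fun z hz => ?_⟩
  obtain ⟨a, ha⟩ := hfb.2 ⟨z, hz⟩
  obtain rfl : el R (w a) = z := congrArg Subtype.val ha
  rw [Subgroup.mem_center_iff]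
  intro x
  suffices x ∈ Subgroup.centralizer ({el R (w a)} : Set (PresentedGroup (relSet n R))) from
    Subgroup.mem_centralizer_singleton_iff.1 this
  have hx : x ∈ Subgroup.closure {x : PresentedGroup (relSet n R) | ∃ g < 2 * n, el R [g] = x} :=
    mem_closure_el (n := n) (R := R) ▸ Subgroup.mem_top x
  refine (Subgroup.closure_le _).2 ?_ hx
  rintro _ ⟨g, hg, rfl⟩
  rw [SetLike.mem_coe, Subgroup.mem_centralizer_singleton_iff]
  have hg' : ∀ x ∈ [g], x < 2 * n := by simpa using hg
  have hf' : ∀ x ∈ [flip g], x < 2 * n := by simpa using flip_lt hg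
  have h1 := el_eq σ o hsep (happ (happ (happ (hlt a) hg') (invWord_lt (hlt a))) hf') (by simp)
    (by rw [el_append, el_append, el_append, el_invWord, el_flip, el_nil, map_mul, map_mul, map_mul,
      map_inv, map_inv, hσw]; simp) (hcen a g hg)
  rw [el_append, el_append, el_append, el_invWord, el_flip, el_nil] at h1
  have h2 : el (n := n) R (w a) * el R [g] = el R [g] * el R (w a) := by
    have := congrArg (fun y => y * (el (n := n) R [g] * el R (w a))) h1
    simpa [mul_assoc] using this
  exact h2.symm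

/-- The kernel lies in the derived subgroup. -/
theorem ker_le_commutator [Finite (PresentedGroup (relSet n R))] (ord : Fin n → ℕ)
    (hord : ∀ i, (PresentedGroup.of i : PresentedGroup (relSet n R)) ^ ord i = 1)
    (hcop : ∀ i, (ord i).Coprime (Nat.card σ.ker)) :
    σ.ker ≤ commutator (PresentedGroup (relSet n R)) := by
  intro z hz
  set f := (Abelianization.of : PresentedGroup (relSet n R) →* _)
  set M := ∏ i, ord i with hM
  have h1 : (powMonoidHom M).comp f = 1 := PresentedGroup.ext fun i => by
    obtain ⟨d, hd⟩ := Finset.dvd_prod_of_mem ord (Finset.mem_univ i)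
    show f (PresentedGroup.of i) ^ M = 1
    rw [hM, hd, pow_mul, ← map_pow, hord, map_one, one_pow]
  have h2 : f z ^ M = 1 := DFunLike.congr_fun h1 z
  have h3 : f z ^ Nat.card σ.ker = 1 := by
    have h := congrArg Subtype.val (pow_card_eq_one' (x := (⟨z, hz⟩ : σ.ker)))
    rw [SubmonoidClass.coe_pow, OneMemClass.coe_one] at h
    rw [← map_pow]
    exact (congrArg f h).trans (map_one f)
  have h4 := pow_gcd_eq_one.2 ⟨h2, h3⟩
  rw [(Nat.Coprime.prod_left fun i _ => hcop i).gcd_eq_one, pow_one] at h4
  exact (QuotientGroup.eq_one_iff z).1 h4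

/-- The order of the presented group from an enumeration. -/
theorem card_eq_of_enum {IV : ℕ} {RL : List (List ℕ)} {HL : List (List ℕ)} {N : ℕ} {T : PTree}
    (he : Enumerated (stdLetters n IV RL R) (relSet n R)
      (subOf (stdLetters n IV RL R) (relSet n R) HL) N T) :
    Nat.card (PresentedGroup (relSet n R)) =
      Nat.card (subOf (stdLetters n IV RL R) (relSet n R) HL) * N := by
  rw [← Subgroup.card_mul_index (subOf (stdLetters n IV RL R) (relSet n R) HL), he.index]

/-- The subgroup of a table in terms of word elements. -/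
theorem subOf_eq {IV : ℕ} {RL : List (List ℕ)} {HL : List (List ℕ)}
    (hHL : ∀ l ∈ HL, ∀ g ∈ l, g < 2 * n) :
    subOf (stdLetters n IV RL R) (relSet n R) HL = Subgroup.closure {x | ∃ l ∈ HL, el R l = x} := by
  rw [subOf]
  congr 1
  ext x
  constructor
  · rintro ⟨l, hl, rfl⟩
    exact ⟨l, hl, (Letters.prod_phi (L := stdLetters n IV RL R) l (fun g hg => hHL l hl g hg)).symm⟩
  · rintro ⟨l, hl, rfl⟩
    exact ⟨l, hl, Letters.prod_phi (L := stdLetters n IV RL R) l (fun g hg => hHL l hl g hg)⟩

/-- An enumeration gives an action whose point stabiliser is the subgroup. -/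
theorem exists_act_of_enum {IV : ℕ} {RL : List (List ℕ)} {HL : List (List ℕ)} {N : ℕ} {T : PTree}
    (he : Enumerated (stdLetters n IV RL R) (relSet n R)
      (subOf (stdLetters n IV RL R) (relSet n R) HL) N T) :
    ∃ a : Act n R N T, ∀ x, a.obs.val x = a.obs.val 1 →
      x ∈ subOf (stdLetters n IV RL R) (relSet n R) HL := by
  obtain ⟨ρ, hρ, hfix, -⟩ := he.action
  refine ⟨⟨he.pos, ρ, fun g hg i => ?_⟩, fun x hx => (hfix x).2 ?_⟩
  · have h := hρ g hg i
    rwa [Letters.phi_of_lt (show g < (stdLetters n IV RL R).K from hg)] at h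
  · have h : (ρ x)⁻¹ ⟨0, he.pos⟩ = ⟨0, he.pos⟩ := Fin.ext (by
      have h1 : ρ 1 = 1 := map_one ρ
      simpa [Act.obs, h1, Equiv.Perm.one_def] using hx)
    rw [Equiv.Perm.inv_def, Equiv.symm_apply_eq] at h
    exact h.symm

/-- A cyclic subgroup meets the kernel trivially. -/
theorem eq_one_of_mem_zpowers {B : PresentedGroup (relSet n R)} {o : ℕ} (hB : B ^ o = 1)
    (hσB : orderOf (σ B) = o) {x : PresentedGroup (relSet n R)} (hx : x ∈ Subgroup.zpowers B)
    (hσx : σ x = 1) : x = 1 := by
  obtain ⟨z, rfl⟩ := hx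
  rw [map_zpow] at hσx
  obtain ⟨d, hd⟩ := orderOf_dvd_iff_zpow_eq_one.2 hσx
  show B ^ z = 1
  rw [hd, hσB, zpow_mul, zpow_natCast, hB, one_zpow]

end Cfsg.Agent.Lib.ExactCover
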