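import Cfsg.Agent.Lib.CosetEnum.Main

/-!
Standard letters for presented groups on `n` generators: `2i` is the `i`-th generator and `2i+1`
its inverse.
-/

set_option autoImplicit false

namespace Cfsg.Agent.Lib.ExactCover

open Cfsg.Agent.Lib.CosetEnum

variable {n : ℕ} [NeZero n]

/-- The signed generator of a letter. -/
def stdSym (n : ℕ) [NeZero n] (g : ℕ) : Fin n × Bool := (Fin.ofNat n (g / 2), g % 2 == 0)

/-- Standard letters with the given relator words. -/
noncomputable def stdLetters (n : ℕ) [NeZero n] (IV : ℕ) (RL R : List (List ℕ)) :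
    Letters (Fin n) where
  K := 2 * n
  IV := IV
  sym := stdSym n
  col i := 2 * i.val
  RL := RL
  rels := R.map fun l => FreeGroup.mk (l.map (stdSym n))

/-- The relator set of standard letters. -/
def relSet (n : ℕ) [NeZero n] (R : List (List ℕ)) : Set (FreeGroup (Fin n)) :=
  {r | r ∈ R.map fun l => FreeGroup.mk (l.map (stdSym n))}

/-- The word of a list of letters. -/
def word (n : ℕ) [NeZero n] (l : List ℕ) : FreeGroup (Fin n) := FreeGroup.mk (l.map (stdSym n))

theorem word_append (l l' : List ℕ) : word n (l ++ l') = word n l * word n l' := by simp [word]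

theorem word_cons (g : ℕ) (l : List ℕ) : word n (g :: l) = word n [g] * word n l := by simp [word]

theorem word_nil : word n [] = 1 := by simp [word, ← FreeGroup.one_eq_mk]

theorem sameRels (IV : ℕ) (RL R : List (List ℕ)) :
    SameRels (stdLetters n IV RL R) (relSet n R) :=
  ⟨fun _ h => h, fun _ h => h⟩

/-- The inverse of a letter. -/
def flip (g : ℕ) : ℕ := if g % 2 = 0 then g + 1 else g - 1

/-- The inverse of a word. -/
def invWord (l : List ℕ) : List ℕ := (l.map flip).reverse

theorem word_flip (g : ℕ) : word n [flip g] = (word n [g])⁻¹ := by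
  simp only [word, List.map_cons, List.map_nil, FreeGroup.inv_mk, FreeGroup.invRev, List.reverse_cons,
    List.reverse_nil, List.nil_append, stdSym, flip]
  rcases Nat.mod_two_eq_zero_or_one g with h | h
  · rw [if_pos h]
    have h1 : (g + 1) / 2 = g / 2 := by omega
    have h2 : (g + 1) % 2 = 1 := by omega
    simp [h, h1, h2]
  · rw [if_neg (by omega)]
    have h1 : (g - 1) / 2 = g / 2 := by omega
    have h2 : (g - 1) % 2 = 0 := by omega
    simp [h, h1, h2]

theorem word_invWord (l : List ℕ) : word n (invWord l) = (word n l)⁻¹ := by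
  induction l with
  | nil => simp [invWord, word_nil]
  | cons g l ih =>
    rw [invWord, List.map_cons, List.reverse_cons, word_append, word_flip, word_cons g l, mul_inv_rev]
    rw [← invWord, ih]

/-- Evaluation of words through letter values. -/
theorem map_lift_word {G M : Type*} [Group G] [Monoid M] (gen : Fin n → G) (ι : G →* M) (ML : ℕ → M)
    (h : ∀ g < 2 * n, ι (FreeGroup.lift gen (word n [g])) = ML g) (l : List ℕ)
    (hl : ∀ g ∈ l, g < 2 * n) : ι (FreeGroup.lift gen (word n l)) = (l.map ML).prod := by
  induction l with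
  | nil => simp [word_nil]
  | cons g l ih =>
    rw [word_cons, map_mul, map_mul, ih fun x hx => hl x (List.mem_cons_of_mem _ hx),
      h g (hl g List.mem_cons_self), List.map_cons, List.prod_cons]

theorem lift_word_pos {G : Type*} [Group G] (gen : Fin n → G) (i : Fin n) :
    FreeGroup.lift gen (word n [2 * i.val]) = gen i := by
  have h : stdSym n (2 * i.val) = (i, true) := by simp [stdSym]
  rw [word, List.map_cons, List.map_nil, h]
  simp

theorem lift_word_neg {G : Type*} [Group G] (gen : Fin n → G) (i : Fin n) :
    FreeGroup.lift gen (word n [2 * i.val + 1]) = (gen i)⁻¹ := by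
  have h1 : (2 * i.val + 1) / 2 = i.val := by omega
  have h2 : (2 * i.val + 1) % 2 = 1 := by omega
  have h : stdSym n (2 * i.val + 1) = (i, false) := by simp [stdSym, h1, h2]
  rw [word, List.map_cons, List.map_nil, h]
  simp

theorem forall_lt_two_mul {p : ℕ → Prop} (h : ∀ i : Fin n, p (2 * i.val) ∧ p (2 * i.val + 1)) :
    ∀ g < 2 * n, p g := by
  intro g hg
  have := h ⟨g / 2, by omega⟩
  rcases Nat.mod_two_eq_zero_or_one g with e | e
  · rw [show g = 2 * (g / 2) by omega]; exact this.1
  · rw [show g = 2 * (g / 2) + 1 by omega]; exact this.2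

end Cfsg.Agent.Lib.ExactCover
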