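import Cfsg.Agent.Lib.CosetEnum.A6x432.Enum
import Cfsg.Agent.Lib.ExactCover.Alt
import Cfsg.Prelude.Def_KGroupFacts

/-!
The six-fold cover of the alternating group of degree 6, as a presented group with exact relators.
-/

set_option autoImplicit false
set_option linter.style.haveILetI false
set_option maxRecDepth 4000
set_option synthInstance.maxSize 2000

namespace Cfsg.Agent.Lib.ExactCover.Alt6

open Cfsg.Agent.Lib.CosetEnum Equiv
open Cfsg.Agent.Lib.CosetEnum.A6x432 (relWords pres)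

universe u

/-- Orders of the generators. -/
def ord : Fin 2 → ℕ := ![5, 5]

/-- Origins of the relators. -/
def origins : List Origin := [
  .pow 0,
  .pow 1,
  .exact [2, 2, 0, 2, 2, 1, 3, 3, 1, 3, 3] false [2, 2, 0, 2, 2] 0 1 0 1,
  .exact [] false [0, 0, 2, 0, 0] 2 1 2 1,
  .exact [2, 2, 0, 2, 2, 1, 1, 3, 3, 1, 3, 3] false [2, 2, 0, 2, 2] 0 2 0 2,
  .exact [] false [0, 0, 2, 0, 0] 2 2 2 2]

theorem valid : Valid ord [] relWords origins := by decide +kernel

/-- The generators as permutations. -/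
def genP : Fin 2 → Perm (Fin 6) := ![permOfList 6 [1, 2, 3, 4, 0, 5] [4, 0, 1, 2, 3, 5] (by decide), permOfList 6 [0, 2, 3, 5, 1, 4] [0, 4, 1, 2, 5, 3] (by decide)]

/-- The generators. -/
def gen (i : Fin 2) : alternatingGroup (Fin 6) :=
  ⟨genP i, by rw [Equiv.Perm.mem_alternatingGroup]; revert i; decide +kernel⟩

/-- The letters as permutations. -/
def ML : ℕ → Perm (Fin 6)
  | 0 => genP 0
  | 1 => (genP 0)⁻¹
  | 2 => genP 1
  | _ => (genP 1)⁻¹

theorem eval (l : List ℕ) (hl : ∀ g ∈ l, g < 2 * 2) :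
    (FreeGroup.lift gen (word 2 l) : Perm (Fin 6)) = (l.map ML).prod :=
  map_lift_word gen (alternatingGroup (Fin 6)).subtype ML
    (forall_lt_two_mul fun i => by
      rw [lift_word_pos, lift_word_neg, map_inv]
      fin_cases i <;> exact ⟨rfl, rfl⟩) l hl

theorem gen_pow : ∀ i, gen i ^ ord i = 1 := by
  intro i
  apply Subtype.ext
  rw [SubmonoidClass.coe_pow]
  show genP i ^ ord i = 1
  revert i; decide +kernel

theorem rels_check : ∀ l ∈ relWords, (∀ g ∈ l, g < 2 * 2) ∧ (l.map ML).prod = 1 := by decide +kernel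

theorem gen_rels : ∀ r ∈ relSet 2 relWords, FreeGroup.lift gen r = 1 := by
  intro r hr
  obtain ⟨l, hl, rfl⟩ := List.mem_map.1 hr
  exact Subtype.ext ((eval l (rels_check l hl).1).trans (rels_check l hl).2)

/-- The cover. -/
abbrev P : Type := PresentedGroup (relSet 2 relWords)

/-- The covering map. -/
noncomputable def σ : P →* alternatingGroup (Fin 6) := PresentedGroup.toGroup gen_rels

theorem σ_el (l : List ℕ) (hl : ∀ g ∈ l, g < 2 * 2) :
    (σ (el relWords l) : Perm (Fin 6)) = (l.map ML).prod := eval l hl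

/-- Words for the three-cycles. -/
def threeWords : List (List ℕ) := [
  [0, 3, 3, 1, 1, 2],
  [3, 1, 1, 2, 0, 3],
  [2, 0, 3, 3, 1, 1],
  [1, 1, 3, 1, 3, 3],
  [3, 1, 1, 3, 1, 3],
  [0, 3, 1, 2, 0, 2],
  [0, 2, 0, 3, 1, 2],
  [2, 0, 3, 1, 2, 0],
  [3, 3, 1, 1, 2, 0],
  [1, 2, 0, 3, 3, 1],
  [0, 0, 2, 0, 3, 3],
  [1, 3, 3, 1, 1, 3],
  [1, 1, 2, 0, 2, 2],
  [2, 0, 0, 2, 2, 0],
  [3, 3, 1, 1, 3, 1],
  [0, 2, 0, 0, 2, 2],
  [1, 1, 2, 0, 3, 3],
  [1, 3, 1, 3, 3, 1],
  [3, 1, 3, 3, 1, 1],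
  [1, 3, 1, 1, 2, 2],
  [0, 0, 3, 3, 1, 3],
  [0, 0, 2, 2, 0, 2],
  [0, 2, 0, 3, 1, 3, 3],
  [0, 0, 2, 0, 2, 2, 0],
  [1, 2, 0, 3, 3, 1, 1],
  [1, 2, 2, 0, 0, 3, 3],
  [0, 3, 1, 2, 0, 2, 2],
  [2, 0, 3, 1, 2, 0, 2],
  [1, 1, 2, 2, 0, 0, 3],
  [3, 3, 1, 1, 2, 0, 3],
  [1, 1, 3, 1, 2, 0, 2],
  [1, 1, 2, 0, 3, 3, 1],
  [0, 0, 2, 0, 3, 1, 2],
  [0, 2, 0, 3, 1, 2, 0],
  [1, 3, 3, 1, 1, 2, 2],
  [2, 0, 0, 2, 0, 2, 2],
  [3, 1, 1, 2, 0, 3, 3],
  [0, 0, 3, 3, 1, 1, 3],
  [2, 0, 0, 2, 0, 3, 3, 1],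
  [0, 2, 0, 3, 3, 1, 1, 3]]

theorem three_check : ∀ a b c : Fin 6, a ≠ b → b ≠ c → a ≠ c →
    ∃ l ∈ threeWords, (∀ g ∈ l, g < 2 * 2) ∧ (l.map ML).prod = swap a b * swap b c := by
  decide +kernel

theorem σ_surjective : Function.Surjective σ :=
  surjective_of_three_cycles σ fun a b c h h' h'' => by
    obtain ⟨l, -, hl, he⟩ := three_check a b c h h' h''
    exact ⟨el relWords l, (σ_el l hl).trans he⟩

/-- A word generating the kernel. -/
def z : List ℕ := [2, 1, 2, 1]

/-- Words for the elements of the kernel. -/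
def zw (a : Multiplicative (ZMod 6)) : List ℕ :=
  (List.replicate (Multiplicative.toAdd a).val z).flatten

theorem zw_check : ∀ a : Multiplicative (ZMod 6), (∀ g ∈ zw a, g < 2 * 2) ∧ ((zw a).map ML).prod = 1 := by
  decide +kernel

theorem card_P_le : Nat.card P ≤ 5 * 432 ∧ Finite P ∧
    ∃ o : Obs 2 relWords ℕ, o.onWord = (fun l => scan (2 * 2) A6x432.table l 0) ∧
      ∀ x ∈ σ.ker, o.val x = o.val 1 → x = 1 := by
  obtain ⟨act, hact⟩ := exists_act_of_enum A6x432.enum
  set B : P := el relWords [0] with hB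
  have hsub : subOf A6x432.letters pres A6x432.subWords = Subgroup.zpowers B := by
    rw [show A6x432.subWords = [[0]] from rfl]
    refine (subOf_eq (n := 2) (by decide)).trans ?_
    rw [Subgroup.zpowers_eq_closure]
    congr 1
    ext x
    rw [Set.mem_singleton_iff]
    constructor
    · rintro ⟨l, hl, rfl⟩
      rw [List.mem_singleton.1 hl, hB]
    · rintro rfl
      exact ⟨[0], List.mem_singleton.2 rfl, rfl⟩
  have hBpow : B ^ 5 = 1 := by
    have hm : word 2 (List.replicate 5 0) ∈ relSet 2 relWords :=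
      List.mem_map.2 ⟨List.replicate 5 0, by decide, rfl⟩
    have h1 : el relWords (List.replicate 5 0) = (1 : P) := PresentedGroup.one_of_mem hm
    rw [hB, ← el_replicate]
    exact h1
  have hcard : Nat.card P = Nat.card (Subgroup.zpowers B) * 432 := by
    rw [← hsub]; exact card_eq_of_enum A6x432.enum
  have hdvd : orderOf B ∣ 5 := orderOf_dvd_of_pow_eq_one hBpow
  rw [Nat.card_zpowers] at hcard
  have hle : orderOf B ≤ 5 := Nat.le_of_dvd (by norm_num) hdvd
  have hpos : 0 < orderOf B := Nat.pos_of_dvd_of_pos hdvd (by norm_num)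
  refine ⟨hcard.trans_le (Nat.mul_le_mul_right _ hle),
    Nat.finite_of_card_ne_zero (by rw [hcard]; positivity), act.obs, rfl, fun x hx h => ?_⟩
  refine eq_one_of_mem_zpowers σ hBpow ?_ (hsub ▸ hact x h) hx
  haveI : Fact (Nat.Prime 5) := ⟨by norm_num⟩
  refine orderOf_eq_prime (by rw [← map_pow, hBpow, map_one]) fun h1 => ?_
  have h2 := (σ_el [0] (by decide)).symm.trans (congrArg Subtype.val h1)
  revert h2
  decide +kernel

instance finite_P : Finite P := card_P_le.2.1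

theorem card_ker_le : Nat.card σ.ker ≤ 6 := by
  have h := Subgroup.card_mul_index σ.ker
  rw [Subgroup.index_ker, MonoidHom.range_eq_top.2 σ_surjective, Subgroup.card_top,
    nat_card_alternatingGroup, Nat.card_fin] at h
  have h2 := card_P_le.1
  rw [← h] at h2
  exact Nat.le_of_mul_le_mul_right (h2.trans (by decide)) (by decide)

theorem scan_check :
    (∀ a b : Multiplicative (ZMod 6), scan (2 * 2) A6x432.table (zw a) 0 = scan (2 * 2) A6x432.table (zw b) 0 → a = b) ∧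
    (∀ a b : Multiplicative (ZMod 6), scan (2 * 2) A6x432.table (zw a ++ zw b) 0 =
      scan (2 * 2) A6x432.table (zw (a * b)) 0) ∧
    (∀ a : Multiplicative (ZMod 6), ∀ g < 2 * 2,
      scan (2 * 2) A6x432.table (zw a ++ [g] ++ invWord (zw a) ++ [flip g]) 0 =
        scan (2 * 2) A6x432.table [] 0) := by
  decide +kernel

theorem ker_cyclic :
    Nonempty (σ.ker ≃* Multiplicative (ZMod 6)) ∧ σ.ker ≤ Subgroup.center P := by
  obtain ⟨-, -, o, ho, hsep⟩ := card_P_le
  refine ker_spec σ o hsep (by simpa using card_ker_le) zw (fun a => (zw_check a).1)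
    (fun a => Subtype.ext ((σ_el _ (zw_check a).1).trans (zw_check a).2)) ?_ ?_ ?_ <;>
    rw [ho]
  · exact scan_check.1
  · exact scan_check.2.1
  · exact scan_check.2.2

theorem gen_pow_P : ∀ i, (PresentedGroup.of i : P) ^ ord i = 1 := by
  intro i
  have hm : FreeGroup.of i ^ ord i ∈ relSet 2 relWords := by
    show _ ∈ relWords.map (word 2)
    revert i; decide +kernel
  rw [PresentedGroup.of, ← map_pow]
  exact PresentedGroup.one_of_mem hm

theorem coprime_ord {Γ : Type u} [Group Γ] [Finite Γ] (τ : Γ →* alternatingGroup (Fin 6))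
    (hτ : Cfsg.IsStemExtension τ) (i : Fin 2) : (ord i).Coprime (Nat.card τ.ker) := by
  refine coprime_ker_of_sq_not_dvd τ hτ (by fin_cases i <;> norm_num [ord]) ?_
  rw [nat_card_alternatingGroup, Nat.card_fin]
  revert i; decide

theorem σ_isStem : Cfsg.IsStemExtension σ :=
  ⟨σ_surjective, ker_cyclic.2, ker_le_commutator σ ord gen_pow_P fun i => by
    rw [Nat.card_congr ker_cyclic.1.some.toEquiv, Nat.card_eq_fintype_card]
    revert i; decide⟩

theorem multiplier : Cfsg.HasCyclicSchurMultiplier (alternatingGroup (Fin 6)) 6 :=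
  hasSchurMultiplier_of_universal σ σ_isStem ker_cyclic.1.some (MulEquiv.refl _) fun _ _ _ τ hτ =>
    map_ker_surjective gen ord [] relWords valid gen_pow gen_rels (by simp) σ_surjective τ hτ
      (coprime_ord τ hτ)

end Cfsg.Agent.Lib.ExactCover.Alt6
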