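import Cfsg.Agent.Lib.ExactCover.Ker

/-!
Bounding a cover through an enumeration over the image of a smaller presented group.
-/

set_option autoImplicit false
set_option linter.style.haveILetI false

namespace Cfsg.Agent.Lib.ExactCover

open Cfsg.Agent.Lib.CosetEnum

variable {m n : ℕ} [NeZero m] [NeZero n] {R R' : List (List ℕ)}

/-- A power relator gives the power identity in the presented group. -/
theorem el_pow_eq_one {g o : ℕ} (h : List.replicate o g ∈ R) : el (n := n) R [g] ^ o = 1 := by
  rw [← el_replicate]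
  exact PresentedGroup.one_of_mem (List.mem_map.2 ⟨_, h, rfl⟩)

/-- An enumeration over the subgroup of one generator bounds the order. -/
theorem card_le_of_cyclic {IV : ℕ} {RL : List (List ℕ)} {N g o : ℕ} {T : PTree} (hg : g < 2 * n)
    (ho : 0 < o) (hpow : List.replicate o g ∈ R)
    (he : Enumerated (stdLetters n IV RL R) (relSet n R)
      (subOf (stdLetters n IV RL R) (relSet n R) [[g]]) N T) :
    Nat.card (PresentedGroup (relSet n R)) ≤ o * N ∧ Finite (PresentedGroup (relSet n R)) := by
  have hsub : subOf (stdLetters n IV RL R) (relSet n R) [[g]] = Subgroup.zpowers (el R [g]) := by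
    refine (subOf_eq (n := n) (by simpa using hg)).trans ?_
    rw [Subgroup.zpowers_eq_closure]
    congr 1
    ext x
    rw [Set.mem_singleton_iff]
    constructor
    · rintro ⟨l, hl, rfl⟩
      rw [List.mem_singleton.1 hl]
    · rintro rfl
      exact ⟨[g], List.mem_singleton.2 rfl, rfl⟩
  have hcard := card_eq_of_enum he
  rw [hsub, Nat.card_zpowers] at hcard
  have hdvd := orderOf_dvd_of_pow_eq_one (el_pow_eq_one (n := n) hpow)
  have hpos : 0 < orderOf (el (n := n) R [g]) := Nat.pos_of_dvd_of_pos hdvd ho
  exact ⟨hcard.trans_le (Nat.mul_le_mul_right _ (Nat.le_of_dvd ho hdvd)),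
    Nat.finite_of_card_ne_zero (by rw [hcard]; exact mul_ne_zero hpos.ne' he.pos.ne')⟩

theorem inc_rels (inc : Fin m → Fin n)
    (h : ∀ r ∈ R'.map (word m), FreeGroup.map inc r ∈ R.map (word n)) :
    ∀ r ∈ relSet m R', FreeGroup.lift (fun i => (PresentedGroup.of (inc i) : PresentedGroup (relSet n R))) r
      = 1 := by
  intro r hr
  have h1 : (FreeGroup.lift fun i => (PresentedGroup.of (inc i) : PresentedGroup (relSet n R))) =
      (PresentedGroup.mk (relSet n R)).comp (FreeGroup.map inc) := by
    apply FreeGroup.ext_hom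
    intro i
    simp [PresentedGroup.of]
  rw [h1, MonoidHom.comp_apply]
  exact PresentedGroup.one_of_mem (h r hr)

/-- The map of the presented group on some of the names. -/
noncomputable def incHom (inc : Fin m → Fin n)
    (h : ∀ r ∈ R'.map (word m), FreeGroup.map inc r ∈ R.map (word n)) :
    PresentedGroup (relSet m R') →* PresentedGroup (relSet n R) :=
  PresentedGroup.toGroup (inc_rels inc h)

/-- The image of a letter. -/
def incLetter (inc : Fin m → Fin n) (g : ℕ) : ℕ := 2 * (inc (Fin.ofNat m (g / 2))).val + g % 2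

theorem incHom_el (inc : Fin m → Fin n)
    (h : ∀ r ∈ R'.map (word m), FreeGroup.map inc r ∈ R.map (word n)) (l : List ℕ) :
    incHom inc h (el R' l) = el R (l.map (incLetter inc)) := by
  have h1 : (FreeGroup.lift fun i => (PresentedGroup.of (inc i) : PresentedGroup (relSet n R))) =
      (PresentedGroup.mk (relSet n R)).comp (FreeGroup.map inc) := by
    apply FreeGroup.ext_hom
    intro i
    simp [PresentedGroup.of]
  show (FreeGroup.lift fun i => (PresentedGroup.of (inc i) : PresentedGroup (relSet n R))) (word m l) = _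
  rw [h1, MonoidHom.comp_apply]
  show PresentedGroup.mk _ (FreeGroup.map inc (word m l)) = PresentedGroup.mk _ (word n _)
  congr 1
  rw [word, word, FreeGroup.map.mk, List.map_map, List.map_map]
  congr 1
  apply List.map_congr_left
  intro g _
  have e1 : (2 * (inc (Fin.ofNat m (g / 2))).val + g % 2) / 2 = (inc (Fin.ofNat m (g / 2))).val := by omega
  have e2 : (2 * (inc (Fin.ofNat m (g / 2))).val + g % 2) % 2 = g % 2 := by omega
  simp only [Function.comp_apply, stdSym, incLetter, e1, e2]
  simp

/-- The subgroup of the enumeration is the image. -/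
theorem subOf_eq_range {IV : ℕ} {RL : List (List ℕ)} (inc : Fin m → Fin n)
    (h : ∀ r ∈ R'.map (word m), FreeGroup.map inc r ∈ R.map (word n)) (HL : List (List ℕ))
    (hHL : ∀ l, l ∈ HL ↔ ∃ i : Fin m, l = [2 * (inc i).val]) :
    subOf (stdLetters n IV RL R) (relSet n R) HL = (incHom inc h).range := by
  refine (subOf_eq (n := n) ?_).trans ?_
  · intro l hl
    obtain ⟨i, rfl⟩ := (hHL l).1 hl
    simp only [List.mem_singleton, forall_eq]
    omega
  rw [MonoidHom.range_eq_map, ← PresentedGroup.closure_range_of, MonoidHom.map_closure]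
  congr 1
  ext x
  constructor
  · rintro ⟨l, hl, rfl⟩
    obtain ⟨i, rfl⟩ := (hHL l).1 hl
    refine ⟨_, ⟨i, rfl⟩, ?_⟩
    rw [el_pos]
    exact PresentedGroup.toGroup.of _
  · rintro ⟨_, ⟨i, rfl⟩, rfl⟩
    refine ⟨[2 * (inc i).val], (hHL _).2 ⟨i, rfl⟩, ?_⟩
    rw [el_pos]
    exact (PresentedGroup.toGroup.of (inc_rels inc h)).symm

/-- The order bound through the smaller group. -/
theorem card_le_of_range {IV : ℕ} {RL : List (List ℕ)} (inc : Fin m → Fin n)
    (h : ∀ r ∈ R'.map (word m), FreeGroup.map inc r ∈ R.map (word n)) (HL : List (List ℕ))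
    (hHL : ∀ l, l ∈ HL ↔ ∃ i : Fin m, l = [2 * (inc i).val]) {q N : ℕ} {T : PTree}
    (he : Enumerated (stdLetters n IV RL R) (relSet n R)
      (subOf (stdLetters n IV RL R) (relSet n R) HL) N T)
    (hQ : Nat.card (PresentedGroup (relSet m R')) ≤ q) (hf : Finite (PresentedGroup (relSet m R'))) :
    Nat.card (PresentedGroup (relSet n R)) ≤ q * N ∧ Finite (PresentedGroup (relSet n R)) := by
  have hcard := card_eq_of_enum he
  rw [subOf_eq_range inc h HL hHL] at hcard
  haveI : Finite (incHom inc h).range := Finite.of_surjective _ (incHom inc h).rangeRestrict_surjective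
  exact ⟨hcard.trans_le (Nat.mul_le_mul_right _ ((Nat.card_le_card_of_surjective _
    (incHom inc h).rangeRestrict_surjective).trans hQ)),
    Nat.finite_of_card_ne_zero (by rw [hcard]; exact mul_ne_zero Nat.card_pos.ne' he.pos.ne')⟩

/-- If the small group has at most twice as many elements as its image downstairs, the subgroup
meets the kernel in at most one non-trivial element. -/
theorem eq_one_or_eq_of_mem_range {Q P G : Type*} [Group Q] [Group P] [Group G] [Finite Q]
    (f : Q →* P) (σ : P →* G) {k : ℕ} (hk : 0 < k) (hQ : Nat.card Q ≤ 2 * k)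
    (hrange : k ≤ Nat.card (σ.comp f).range) {z : P} (hz : z ∈ f.range) (hσz : σ z = 1) (hne : z ≠ 1)
    {x : P} (hx : x ∈ f.range) (hσx : σ x = 1) : x = 1 ∨ x = z := by
  classical
  obtain ⟨z', rfl⟩ := hz
  obtain ⟨q, rfl⟩ := hx
  have hker : Nat.card (σ.comp f).ker ≤ 2 := by
    have h1 := Subgroup.card_mul_index (σ.comp f).ker
    rw [Subgroup.index_ker] at h1
    exact Nat.le_of_mul_le_mul_right
      ((Nat.mul_le_mul_left _ hrange).trans (h1.le.trans hQ)) hk
  by_contra hcon
  push Not at hcon
  have h3 : ({(1 : (σ.comp f).ker), ⟨z', hσz⟩, ⟨q, hσx⟩} : Finset (σ.comp f).ker).card = 3 := by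
    rw [Finset.card_insert_of_notMem, Finset.card_insert_of_notMem, Finset.card_singleton]
    · simp only [Finset.mem_singleton]
      intro e
      exact hcon.2 (congrArg (fun x : (σ.comp f).ker => f x.1) e).symm
    · simp only [Finset.mem_insert, Finset.mem_singleton]
      rintro (e | e)
      · exact hne ((congrArg (fun x : (σ.comp f).ker => f x.1) e).symm.trans (map_one f))
      · exact hcon.1 ((congrArg (fun x : (σ.comp f).ker => f x.1) e).symm.trans (map_one f))
  haveI : Fintype (σ.comp f).ker := Fintype.ofFinite _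
  have := Finset.card_le_univ ({(1 : (σ.comp f).ker), ⟨z', hσz⟩, ⟨q, hσx⟩} : Finset (σ.comp f).ker)
  rw [h3, ← Nat.card_eq_fintype_card] at this
  omega

/-- A subgroup missing an element of a kernel with at most three elements meets it trivially. -/
theorem eq_one_of_small {P : Type*} [Group P] [Finite P] (K H : Subgroup P) (hK : Nat.card K ≤ 3)
    {z : P} (hz : z ∈ K) (hzH : z ∉ H) {x : P} (hxK : x ∈ K) (hxH : x ∈ H) : x = 1 := by
  have hlt : Nat.card (K ⊓ H : Subgroup P) < Nat.card K := by
    refine lt_of_le_of_ne (Subgroup.card_le_of_le inf_le_left) fun e => hzH ?_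
    exact ((Subgroup.eq_of_le_of_card_ge inf_le_left e.ge).ge hz).2
  have hdvd : Nat.card (K ⊓ H : Subgroup P) ∣ Nat.card K := Subgroup.card_dvd_of_le inf_le_left
  have hone : Nat.card (K ⊓ H : Subgroup P) = 1 := by
    have hpos : 0 < Nat.card (K ⊓ H : Subgroup P) := Nat.card_pos
    generalize Nat.card (K ⊓ H : Subgroup P) = a at *
    generalize Nat.card K = b at *
    interval_cases b <;> interval_cases a <;> omega
  have hbot := Subgroup.card_eq_one.1 hone
  have : x ∈ K ⊓ H := ⟨hxK, hxH⟩
  rwa [hbot, Subgroup.mem_bot] at this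

end Cfsg.Agent.Lib.ExactCover
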