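import Cfsg.Agent.Lib.CosetEnum.U33x864.Enum
import Cfsg.Agent.Lib.CosetEnum.G23x2106.Enum
import Cfsg.Agent.Lib.ExactCover.Alt
import Cfsg.Agent.Lib.ExactCover.Sub
import Cfsg.Agent.Lib.GTwoThree.Basic
import Cfsg.Agent.Lib.G24.Order
import Cfsg.Agent.Lib.G24.Transport
import Cfsg.Prelude.Def_KGroupFacts

/-!
The triple cover of `G₂(3)`, as a presented group with exact relators on three generators of order
seven; two of them generate a copy of `U₃(3)` (order at most `6048`) of index `2106`.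
-/

set_option autoImplicit false
set_option linter.style.haveILetI false
set_option maxRecDepth 20000
set_option synthInstance.maxSize 2000

namespace Cfsg.Agent.Lib.ExactCover.G23

open Cfsg.Lie Cfsg.Agent.Lib.CosetEnum Cfsg.Agent.Lib.GTwoThree
open Cfsg.Agent.Lib.CosetEnum.G23x2106 (relWords pres)

/-- Orders of the generators. -/
def ord : Fin 3 → ℕ := ![7, 7, 7]

/-- Origins of the relators. -/
def origins : List Origin := [
  .pow 0,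
  .pow 1,
  .pow 2,
  .exact [2, 1] false [0, 3, 0, 2] 0 1 2 2,
  .exact [3, 1, 2, 1] false [0, 3, 0, 2] 0 3 3 1,
  .exact [3, 1, 2, 1] false [0, 3, 0, 2] 0 2 3 3,
  .exact [5, 5, 5, 0, 4, 4, 4, 0, 0, 0, 5] true [1, 1, 1, 5, 5, 5] 0 1 5 1,
  .exact [2, 5, 0, 3, 0] false [1, 2, 1, 4, 3] 0 2 4 2,
  .exact [] false [0, 0, 2, 2, 0, 0, 3] 0 1 2 1,
  .exact [4, 1, 5, 0, 0, 4, 1, 4, 1] false [0, 5, 0, 5, 1, 1, 4] 0 1 4 1,
  .exact [] false [0, 0, 0, 4, 4, 4] 0 2 5 2,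
  .exact [2, 5, 0, 3, 0] false [1, 2, 1, 4, 3] 0 3 4 3,
  .exact [] false [0, 0, 2, 1, 4, 3, 1] 4 1 4 1,
  .exact [] false [0, 0, 2, 2, 2, 1, 1, 2] 0 1 2 1,
  .exact [2, 1, 1, 3, 3, 1, 1] false [0, 0, 2, 2, 0, 0, 3] 0 2 2 2,
  .exact [2, 1, 4, 3, 1, 5, 5, 5, 1, 4, 4, 4, 0, 2, 5, 0, 3] false [2, 1, 4, 3, 1, 5, 5, 5] 0 1 0 1,
  .exact [5, 0, 5] false [4, 1, 4, 0, 3, 3, 3, 5] 0 1 2 1,
  .exact [5, 5, 5, 2, 1] false [0, 3, 4, 4, 4, 0, 2, 5] 2 1 2 1,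
  .exact [4, 4, 4, 0, 2, 5, 3, 1, 5, 5, 5, 0, 0, 2] false [3, 1, 1, 4, 4, 4, 0, 2] 4 1 4 1,
  .exact [] false [0, 0, 2, 1, 4, 3, 1] 4 2 4 2,
  .exact [2] false [3, 0, 2, 2, 4, 4, 0, 5] 0 1 4 2,
  .exact [4, 4, 4, 2, 0, 3, 5, 5, 5, 0, 0, 2, 5, 3, 3] true [4, 3, 1, 1, 4, 4, 4, 2] 0 1 3 2,
  .exact [5, 2, 4, 1, 5, 5, 1, 1, 4, 4, 0, 5, 3, 4, 0, 0] false [1, 1, 5, 2, 4, 1, 5, 5] 0 2 4 1,
  .exact [] false [0, 3, 4, 1, 5, 1, 2, 5] 2 2 4 1,
  .exact [3, 5, 5, 5, 0, 0, 2, 5] false [4, 3, 1, 1, 4, 4, 4, 2] 0 3 2 1,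
  .exact [] false [0, 3, 4, 1, 5, 1, 2, 5] 2 1 5 3,
  .exact [3, 1, 4, 4, 4, 0, 2, 5, 3, 4, 3, 1, 5, 5, 5, 0, 2] false [3, 1, 4, 4, 4, 0, 2, 5] 2 1 0 3,
  .exact [2, 5, 3, 0, 2, 2, 0, 4, 4, 0] false [1, 5, 5, 1, 3, 3, 1, 2] 4 1 4 3,
  .exact [] false [0, 0, 2, 2, 0, 4, 3, 0, 0] 4 1 3 1,
  .exact [] true [2, 1, 3, 3, 1, 2, 2, 2] 0 1 1 2,
  .exact [2, 2, 0, 2, 0, 2, 1, 1, 3, 1, 3, 1, 3, 3, 0, 0] false [1, 1, 2, 2, 0, 2, 0, 2] 0 2 2 1,
  .exact [2, 2, 0, 2, 2, 1, 2, 0, 3, 3, 1, 3, 3, 0, 0, 3, 3] true [1, 1, 2, 2, 0, 2, 2, 1] 2 1 3 2,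
  .exact [2, 0, 2, 0, 2, 0] false [1, 3, 1, 3, 1, 3, 0, 0] 2 1 3 2,
  .exact [2, 2, 0, 2, 0, 2, 0, 3, 1, 3, 1, 3, 3, 0, 0, 3, 3, 3] true [1, 1, 2, 2, 0, 2, 0, 2] 0 1 3 3,
  .exact [3, 3, 3, 0, 2, 2, 0, 3, 1, 2, 1, 3, 3, 1, 2, 2, 2] false [3, 3, 3, 0, 2, 2, 0, 3] 0 1 0 3]

theorem valid : Valid ord [] relWords origins := by decide +kernel

theorem root_inv : ∀ (r : Fin chevG2.nroots) (t : ZMod 3),
    chevG2.xMat (ZMod 3) r t * chevG2.xMat (ZMod 3) r (-t) = 1 ∧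
    chevG2.xMat (ZMod 3) r (-t) * chevG2.xMat (ZMod 3) r t = 1 := by
  decide +kernel

/-- A root element. -/
def root (r : Fin chevG2.nroots) (t : ZMod 3) : G3 :=
  ⟨Units.mk (chevG2.xMat (ZMod 3) r t) (chevG2.xMat (ZMod 3) r (-t)) (root_inv r t).1 (root_inv r t).2,
    Subgroup.subset_closure ⟨r, t, rfl⟩⟩

theorem φ_root (r : Fin chevG2.nroots) (t : ZMod 3) : φ (root r t) = genMat r t := rfl

/-- The generators as products of root elements. -/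
def genW : Fin 3 → List (Fin 12 × ZMod 3) := ![[(3, 2), (6, 1), (8, 2), (1, 2), (9, 1), (3, 2)],
  [(8, 2), (4, 2), (4, 1), (1, 1), (6, 2), (6, 2), (3, 2), (6, 1), (8, 2), (1, 2), (9, 1), (3, 2), (3, 2), (6, 1), (8, 2), (1, 2), (9, 1), (3, 2), (3, 2), (6, 1), (8, 2), (1, 2), (9, 1), (3, 2), (6, 1), (6, 1), (1, 2), (4, 2), (4, 1), (8, 1)],
  [(3, 1), (1, 2), (3, 2), (6, 1), (8, 2), (1, 2), (9, 1), (3, 2), (1, 1), (3, 2)]]

/-- The generators. -/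
def gen (i : Fin 3) : G3 := ((genW i).map fun p => root p.1 p.2).prod

/-- The letters as matrices. -/
def ML : ℕ → M7
  | 0 => !![2, 1, 2, 2, 2, 1, 0; 1, 2, 1, 0, 2, 0, 2; 2, 1, 0, 2, 0, 2, 1; 2, 1, 1, 0, 0, 1, 1; 2, 2, 0, 1, 0, 2, 1; 0, 1, 1, 1, 1, 2, 2; 0, 1, 2, 2, 2, 0, 0]
  | 1 => !![2, 1, 2, 1, 1, 0, 0; 1, 0, 1, 0, 1, 2, 1; 2, 1, 2, 2, 1, 1, 1; 1, 0, 2, 0, 0, 2, 1; 1, 2, 0, 1, 0, 2, 1; 0, 1, 2, 1, 1, 0, 2; 2, 2, 0, 2, 1, 0, 2]
  | 2 => !![0, 2, 0, 1, 1, 1, 0; 2, 0, 0, 1, 2, 1, 0; 1, 0, 1, 2, 0, 1, 2; 2, 1, 0, 1, 2, 0, 0; 1, 1, 2, 0, 1, 0, 1; 0, 1, 0, 0, 0, 1, 0; 0, 1, 2, 1, 2, 1, 2]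
  | 3 => !![0, 2, 1, 2, 1, 0, 0; 0, 1, 0, 2, 0, 2, 0; 1, 0, 0, 1, 1, 1, 1; 2, 0, 2, 1, 2, 2, 0; 2, 2, 1, 0, 1, 1, 0; 0, 2, 0, 1, 0, 2, 0; 2, 1, 1, 0, 0, 1, 1]
  | 4 => !![2, 2, 2, 0, 2, 1, 2; 2, 1, 0, 2, 1, 2, 0; 0, 2, 1, 1, 1, 2, 0; 2, 2, 0, 2, 0, 2, 1; 2, 0, 0, 2, 1, 0, 0; 1, 0, 2, 0, 1, 1, 2; 2, 2, 1, 2, 1, 1, 1]
  | _ => !![2, 0, 1, 1, 1, 1, 2; 1, 1, 0, 0, 0, 1, 2; 1, 2, 1, 0, 2, 2, 0; 1, 1, 1, 1, 0, 1, 1; 0, 1, 2, 2, 2, 2, 0; 1, 0, 0, 0, 1, 1, 2; 2, 2, 2, 0, 2, 1, 1]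

theorem ML_check : ∀ i : Fin 3, ((genW i).map fun p => genMat p.1 p.2).prod = ML (2 * i.val) ∧
    ML (2 * i.val) * ML (2 * i.val + 1) = 1 ∧ ML (2 * i.val) ^ ord i = 1 := by
  decide +kernel

theorem φ_gen (i : Fin 3) : φ (gen i) = ML (2 * i.val) := by
  rw [gen, map_list_prod, List.map_map, ← (ML_check i).1]
  rfl

theorem eval (l : List ℕ) (hl : ∀ g ∈ l, g < 2 * 3) :
    φ (FreeGroup.lift gen (word 3 l)) = (l.map ML).prod :=
  map_lift_word gen φ ML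
    (forall_lt_two_mul fun i => by
      rw [lift_word_pos, lift_word_neg]
      refine ⟨φ_gen i, ?_⟩
      have h : φ (gen i)⁻¹ * φ (gen i) = 1 := by rw [← map_mul, inv_mul_cancel, map_one]
      have h2 := (ML_check i).2.1
      rw [← φ_gen i] at h2
      calc φ (gen i)⁻¹ = φ (gen i)⁻¹ * (φ (gen i) * ML (2 * i.val + 1)) := by rw [h2, mul_one]
        _ = ML (2 * i.val + 1) := by rw [← mul_assoc, h, one_mul]) l hl

theorem eval_one (l : List ℕ) (hl : ∀ g ∈ l, g < 2 * 3) (h : (l.map ML).prod = 1) :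
    FreeGroup.lift gen (word 3 l) = 1 :=
  φ_injective ((eval l hl).trans (h.trans (map_one φ).symm))

theorem gen_pow : ∀ i, gen i ^ ord i = 1 := fun i =>
  φ_injective (by rw [map_pow, φ_gen, (ML_check i).2.2, map_one])

theorem rels_check : ∀ l ∈ relWords, (∀ g ∈ l, g < 2 * 3) ∧ (l.map ML).prod = 1 := by decide +kernel

theorem gen_rels : ∀ r ∈ relSet 3 relWords, FreeGroup.lift gen r = 1 := by
  intro r hr
  obtain ⟨l, hl, rfl⟩ := List.mem_map.1 hr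
  exact eval_one l (rels_check l hl).1 (rels_check l hl).2

/-- The cover. -/
abbrev P : Type := PresentedGroup (relSet 3 relWords)

/-- The covering map. -/
noncomputable def σ : P →* G3 := PresentedGroup.toGroup gen_rels

theorem φσ_el (l : List ℕ) (hl : ∀ g ∈ l, g < 2 * 3) : φ (σ (el relWords l)) = (l.map ML).prod :=
  eval l hl

/-- Words for root elements. -/
def rootWords : List (List ℕ) := [
  [0, 4, 3, 3, 0, 3, 0, 0, 5, 1],
  [0, 4, 1, 1, 2, 1, 2, 2, 5, 1],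
  [4, 2, 1, 1, 3, 1, 5],
  [4, 0, 2, 0, 0, 3, 5],
  [2, 0, 2, 0, 5, 5, 1, 1, 2, 2],
  [3, 3, 0, 0, 4, 4, 1, 3, 1, 3],
  [0, 5, 3, 1, 3, 1, 4, 1, 3, 3],
  [2, 2, 0, 5, 0, 2, 0, 2, 4, 1],
  [2, 2, 1, 3, 3, 3, 5, 5, 5, 1],
  [0, 4, 3, 5, 2, 4, 1, 1, 5, 3],
  [0, 5, 0, 2, 5, 0, 4, 4, 0, 2],
  [0, 4, 1, 3, 1, 3, 4, 2, 2, 5],
  [0, 2, 2, 1, 2, 1, 3, 1],
  [0, 2, 0, 3, 0, 3, 3, 1],
  [2, 1, 5, 1, 1, 2, 0, 3, 4, 4],
  [3, 3, 4, 3, 5, 1, 3, 4, 4],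
  [0, 5, 2, 1, 3, 3, 1, 2, 4, 1, 3],
  [5, 5, 0, 3, 3, 5, 3, 4, 0, 0],
  [2, 2, 0, 0, 0, 5, 2, 2, 5, 0],
  [1, 4, 3, 3, 0, 0, 0, 5, 3, 3],
  [1, 3, 0, 4, 1, 3, 0, 4],
  [1, 1, 4, 2, 1, 2, 5, 5, 1],
  [5, 3, 4, 3, 1, 5, 5, 1, 1],
  [0, 0, 4, 4, 0, 2, 5, 2, 4]]

theorem root_check : ∀ (r : Fin chevG2.nroots) (t : ZMod 3), t = 0 ∨
    ((∀ g ∈ rootWords.getD (2 * r.val + (t.val - 1)) [], g < 2 * 3) ∧
      ((rootWords.getD (2 * r.val + (t.val - 1)) []).map ML).prod = genMat r t) := by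
  decide +kernel

theorem φ_zero : ∀ r : Fin chevG2.nroots, genMat r 0 = 1 := by decide +kernel

theorem σ_surjective : Function.Surjective σ := by
  have hle : chevG2.group (ZMod 3) ≤ σ.range.map (chevG2.group (ZMod 3)).subtype := by
    refine (Subgroup.closure_le _).2 ?_
    rintro g ⟨r, t, hg⟩
    have hgr : g = (root r t : GL chevG2.Idx (ZMod 3)) := Units.ext hg
    refine ⟨root r t, ?_, hgr.symm⟩
    rcases root_check r t with rfl | ⟨hl, he⟩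
    · refine ⟨1, φ_injective ?_⟩
      rw [map_one, map_one, φ_root, φ_zero]
    · exact ⟨el relWords _, φ_injective ((φσ_el _ hl).trans (he.trans (φ_root r t).symm))⟩
  intro x
  obtain ⟨y, ⟨p, rfl⟩, hy⟩ := hle x.2
  exact ⟨p, Subtype.ext hy⟩

theorem card_G : Nat.card G3 = 4245696 := by
  have h := Cfsg.Agent.Lib.ChevStructure.Fast.Certified.card_group
    Cfsg.Agent.Lib.ChevStructure.Cert.G2.certified Cfsg.Agent.Lib.ChevStructure.commOK_G2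
    (R := Cfsg.Agent.Lib.G24.Order.reps) (T := Cfsg.Agent.Lib.G24.Order.wit) (degs := [2, 6])
    (U := [[-1, 0], [2, 1]]) (U' := [[-1, 0], [2, 1]]) (V := [[0, 1], [1, 2]]) (V' := [[-2, 1], [1, 0]])
    (d := [1, 1])
    (by decide +kernel) (by decide +kernel) (by decide +kernel) (K := ZMod 3) (ZMod.card 3)
  have h1 : (∏ i : Fin chevG2.rank, Nat.gcd (3 - 1) (([1, 1] : List ℕ).getD i.val 0)) = 1 := by
    decide
  rw [h1, one_mul] at h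
  exact h.trans (by decide +kernel)

/-- The first two of three names. -/
def inc : Fin 2 → Fin 3 := ![0, 1]

theorem inc_check : ∀ r ∈ U33x864.relWords.map (word 2), FreeGroup.map inc r ∈ relWords.map (word 3) := by
  decide +kernel

theorem hHL : ∀ l, l ∈ G23x2106.subWords ↔ ∃ i : Fin 2, l = [2 * (inc i).val] := by
  intro l
  simp [G23x2106.subWords, Fin.exists_fin_two, inc]

theorem card_Q_le : Nat.card (PresentedGroup (relSet 2 U33x864.relWords)) ≤ 7 * 864 ∧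
    Finite (PresentedGroup (relSet 2 U33x864.relWords)) :=
  card_le_of_cyclic (g := 0) (by norm_num) (by norm_num) (by decide +kernel) U33x864.enum

theorem card_P_le : Nat.card P ≤ 7 * 864 * 2106 ∧ Finite P :=
  card_le_of_range inc inc_check _ hHL G23x2106.enum card_Q_le.1 card_Q_le.2

instance finite_P : Finite P := card_P_le.2

theorem card_ker_le : Nat.card σ.ker ≤ 3 := by
  have h := Subgroup.card_mul_index σ.ker
  rw [Subgroup.index_ker, MonoidHom.range_eq_top.2 σ_surjective, Subgroup.card_top, card_G] at h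
  have h2 := card_P_le.1
  rw [← h] at h2
  exact Nat.le_of_mul_le_mul_right (h2.trans (by decide)) (by decide)

/-- A word generating the kernel. -/
def z : List ℕ := [2, 2, 4, 0, 5, 1, 2, 2, 4, 0, 5, 1]

/-- Words for the elements of the kernel. -/
def zw (a : Multiplicative (ZMod 3)) : List ℕ :=
  (List.replicate (Multiplicative.toAdd a).val z).flatten

theorem zw_check : ∀ a : Multiplicative (ZMod 3), (∀ g ∈ zw a, g < 2 * 3) ∧ ((zw a).map ML).prod = 1 := by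
  decide +kernel

theorem scan_check :
    (∀ a b : Multiplicative (ZMod 3),
      scan (2 * 3) G23x2106.table (zw a) 0 = scan (2 * 3) G23x2106.table (zw b) 0 → a = b) ∧
    (∀ a b : Multiplicative (ZMod 3), scan (2 * 3) G23x2106.table (zw a ++ zw b) 0 =
      scan (2 * 3) G23x2106.table (zw (a * b)) 0) ∧
    (∀ a : Multiplicative (ZMod 3), ∀ g < 2 * 3,
      scan (2 * 3) G23x2106.table (zw a ++ [g] ++ invWord (zw a) ++ [flip g]) 0 =
        scan (2 * 3) G23x2106.table [] 0) := by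
  decide +kernel

theorem ker_cyclic :
    Nonempty (σ.ker ≃* Multiplicative (ZMod 3)) ∧ σ.ker ≤ Subgroup.center P := by
  obtain ⟨act, hact⟩ := exists_act_of_enum G23x2106.enum
  have hsep : ∀ x ∈ σ.ker, act.obs.val x = act.obs.val 1 → x = 1 := by
    intro x hx hval
    refine eq_one_of_small σ.ker (subOf G23x2106.letters pres G23x2106.subWords) card_ker_le
      (z := el relWords (zw (Multiplicative.ofAdd 1))) ?_ ?_ hx (hact x hval)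
    · exact MonoidHom.mem_ker.2 (eval_one _ (zw_check _).1 (zw_check _).2)
    · intro hz
      obtain ⟨ρ, hρ, hfix, -⟩ := G23x2106.enum.action
      have h0 := (hfix _).1 hz
      let a : Act 3 relWords 2106 G23x2106.table := ⟨G23x2106.enum.pos, ρ, fun g hg i => by
        have h := hρ g hg i
        rwa [Letters.phi_of_lt (show g < G23x2106.letters.K from hg)] at h⟩
      have h1 := a.scan_eq (zw (Multiplicative.ofAdd 1)) (zw_check _).1 ⟨0, G23x2106.enum.pos⟩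
      have h2 : (ρ (el relWords (zw (Multiplicative.ofAdd 1))))⁻¹ ⟨0, G23x2106.enum.pos⟩ =
          ⟨0, G23x2106.enum.pos⟩ := by
        rw [Equiv.Perm.inv_def, Equiv.symm_apply_eq, h0]
      rw [h2] at h1
      revert h1
      decide +kernel
  refine ker_spec σ act.obs hsep (by simpa [Nat.card_eq_fintype_card] using card_ker_le) zw
    (fun a => (zw_check a).1) (fun a => eval_one _ (zw_check a).1 (zw_check a).2) ?_ ?_ ?_
  · exact scan_check.1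
  · exact scan_check.2.1
  · exact scan_check.2.2

theorem gen_pow_P : ∀ i, (PresentedGroup.of i : P) ^ ord i = 1 := by
  intro i
  have hm : FreeGroup.of i ^ ord i ∈ relSet 3 relWords := by
    show _ ∈ relWords.map (word 3)
    revert i; decide +kernel
  rw [PresentedGroup.of, ← map_pow]
  exact PresentedGroup.one_of_mem hm

theorem σ_isStem : Cfsg.IsStemExtension σ :=
  ⟨σ_surjective, ker_cyclic.2, ker_le_commutator σ ord gen_pow_P fun i => by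
    rw [Nat.card_congr ker_cyclic.1.some.toEquiv, Nat.card_eq_fintype_card]
    revert i; decide⟩

theorem multiplier {H : Type*} [Group H] (e : G3 ≃* H) : Cfsg.HasCyclicSchurMultiplier H 3 :=
  hasSchurMultiplier_of_universal σ σ_isStem ker_cyclic.1.some e fun _ _ _ τ hτ =>
    map_ker_surjective gen ord [] relWords valid gen_pow gen_rels (by simp) σ_surjective τ hτ
      fun i => by
        haveI : Finite G3 := Nat.finite_of_card_ne_zero (by rw [card_G]; norm_num)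
        refine coprime_ker_of_sq_not_dvd τ hτ (by fin_cases i <;> norm_num [ord]) ?_
        rw [card_G]
        revert i; decide

end Cfsg.Agent.Lib.ExactCover.G23
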