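import Cfsg.Agent.Lib.G24.Data
import Mathlib.LinearAlgebra.Matrix.Notation

/-! Certificate data for the cover of `G2(4)`: generators and words. -/

set_option autoImplicit false

namespace Cfsg.Agent.Lib.ExactCover.G24

open Cfsg.Agent.Lib.G24

/-- The generators of order seven and their inverses. -/
def letterMats : List M6 := [
  !![0, 1, 0, K4.v, K4.w, 0; 1, 1, K4.v, K4.v, 0, K4.w; K4.w, K4.v, 1, K4.v, K4.w, 0; K4.w, 0, 0, 1, 0, 0; K4.w, K4.v, K4.v, K4.w, K4.v, K4.w; 0, 1, 1, 0, 0, K4.v],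
  !![K4.v, K4.w, 0, 0, K4.w, 0; 0, K4.v, 0, K4.w, 0, K4.w; 0, K4.w, 1, K4.v, K4.v, K4.v; 1, K4.v, 0, 1, K4.v, 0; 1, K4.v, 0, K4.v, 1, 1; 0, K4.w, K4.w, K4.w, 1, 0],
  !![1, 1, 0, K4.w, K4.w, K4.w; K4.w, 1, 1, K4.w, K4.v, 0; K4.v, 0, K4.v, K4.w, 1, 1; 1, K4.v, K4.w, K4.v, K4.v, K4.v; 0, 1, K4.w, 1, K4.v, K4.w; K4.w, K4.w, 1, 1, 1, K4.w],
  !![K4.w, K4.w, K4.v, 1, 0, K4.w; 1, K4.v, K4.v, 1, K4.v, K4.w; 1, 1, K4.v, K4.w, K4.w, K4.w; 1, K4.w, K4.w, K4.v, 1, 0; K4.w, 1, K4.v, 0, 1, 1; K4.w, 0, 1, K4.v, K4.w, 1],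
  !![K4.v, 0, K4.v, 0, 0, 0; K4.w, 1, K4.w, 0, 1, 0; 0, K4.w, K4.v, 0, K4.w, 0; K4.v, 1, K4.w, K4.w, 1, K4.w; 0, K4.v, 1, K4.v, K4.w, K4.v; K4.w, 0, K4.w, K4.w, K4.v, 0],
  !![0, K4.v, K4.w, 0, 0, 0; K4.v, K4.w, 1, K4.w, 1, 0; K4.w, K4.v, K4.w, 0, 0, 0; K4.w, 1, K4.w, K4.v, K4.w, K4.v; 0, K4.v, 1, K4.w, 1, 0; K4.w, 0, K4.v, 0, K4.w, K4.v],
  !![0, K4.w, K4.w, K4.v, 1, 0; K4.w, 1, K4.v, 0, K4.w, K4.v; K4.w, K4.w, 0, 0, 1, K4.w; K4.w, 1, K4.w, K4.w, K4.w, 0; K4.v, 0, K4.w, 0, K4.v, 0; 1, 1, K4.w, 0, K4.v, 1],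
  !![1, 0, 0, K4.w, K4.v, 0; K4.v, K4.v, K4.w, 1, K4.w, 1; 0, 0, K4.w, 0, 0, K4.v; K4.w, K4.w, K4.w, 0, K4.v, K4.w; 1, 0, 1, K4.w, 1, K4.w; 1, K4.v, K4.w, K4.w, K4.w, 0]]

/-- The generators as products of root elements. -/
def rootWords : List (List (Fin 12 × K4)) := [
  [(4, K4.w), (11, K4.e), (0, K4.w), (2, K4.w), (8, K4.v), (10, K4.w)],
  [(6, K4.w), (3, K4.v), (7, K4.e), (1, K4.e), (11, K4.w), (3, K4.v), (2, K4.v)],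
  [(7, K4.v), (1, K4.v), (10, K4.v), (1, K4.e), (6, K4.v), (9, K4.e), (3, K4.e)],
  [(6, K4.w), (5, K4.e), (11, K4.e), (1, K4.v), (5, K4.w), (9, K4.v), (7, K4.v)]]

/-- Words for the root elements, three for each root. -/
def surjWords : List (List ℕ) := [
  [4, 7, 4, 3, 7, 1, 4, 7, 5, 6],
  [1, 2, 7, 0, 0, 7, 1, 4, 2, 4],
  [0, 3, 5, 6, 1, 1, 2, 4, 2, 6, 6, 4],
  [0, 4, 0, 0, 6, 3, 4, 3, 1, 7, 4],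
  [0, 5, 0, 0, 3, 4, 2, 1, 2, 2],
  [1, 1, 2, 1, 7, 0, 4, 7, 4, 7, 1, 7],
  [0, 3, 0, 3, 1, 3, 6, 3, 0],
  [0, 2, 4, 3, 3, 5, 6, 1, 3, 4, 4],
  [3, 1, 4, 4, 7, 5, 7, 1, 5, 7],
  [0, 0, 5, 1, 2, 5, 3, 5, 5],
  [3, 3, 0, 0, 3, 0, 4, 0, 3],
  [0, 0, 0, 4, 1, 4, 3],
  [1, 1, 6, 0, 0, 0, 5, 2, 0, 2, 4],
  [1, 1, 1, 4, 1, 1, 5, 7, 0, 4, 1],
  [5, 5, 2, 6, 0, 7, 0, 3, 0, 0, 4],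
  [0, 7, 3, 4, 3, 0, 3, 3, 6, 4],
  [1, 2, 6, 0, 0, 2, 2, 0, 7, 7, 5],
  [5, 5, 5, 2, 0, 5, 3, 7, 7, 0, 4],
  [2, 4, 3, 7, 4, 0, 3, 6, 1, 2],
  [1, 2, 7, 0, 0, 4, 2, 1, 7, 4],
  [0, 5, 1, 5, 1, 2, 7, 7, 0, 0],
  [4, 6, 5, 0, 6, 1, 6, 1, 6],
  [2, 6, 3, 5, 0, 6, 4, 4, 6, 6, 6],
  [0, 4, 0, 6, 0, 6, 5, 2, 6, 6, 3],
  [0, 4, 4, 1, 2, 7, 3, 7, 2],
  [4, 1, 2, 4, 3, 0, 4, 1],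
  [2, 0, 3, 1, 4, 4, 0, 3],
  [3, 5, 1, 3, 1, 4, 4, 2, 6],
  [0, 2, 2, 7, 2, 0, 0, 5, 3, 1, 1, 7],
  [2, 5, 2, 0, 2, 7, 5, 3, 4, 0],
  [2, 6, 0, 3, 0, 0, 6],
  [1, 4, 2, 5, 3, 4, 7, 2, 6, 0],
  [0, 4, 6, 4, 2, 6, 2, 1, 5, 6],
  [4, 4, 7, 2, 0, 3, 1, 5, 6, 5, 7],
  [1, 1, 4, 3, 0, 4, 1, 4, 6, 4, 6],
  [7, 2, 6, 0, 0, 2, 6, 3, 7, 3, 0]]

/-- A word for the central involution. -/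
def zWord : List ℕ := [2, 0, 3, 1, 6, 2, 6, 1, 3, 1]

end Cfsg.Agent.Lib.ExactCover.G24
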