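import Cfsg.Agent.Lib.CosetEnum.G24U864.Enum
import Cfsg.Agent.Lib.CosetEnum.G24Q200.Enum
import Cfsg.Agent.Lib.CosetEnum.G24P416.Enum
import Cfsg.Agent.Lib.CosetEnum.G24A8064.Ok
import Cfsg.Agent.Lib.ExactCover.Alt
import Cfsg.Agent.Lib.ExactCover.Sub
import Cfsg.Agent.Lib.ExactCover.G24Data
import Cfsg.Agent.Lib.G24.Order
import Cfsg.Agent.Lib.G24.Rep
import Cfsg.Agent.Lib.G24.Transport
import Cfsg.Prelude.Def_KGroupFacts

/-!
The double cover of `G₂(4)`, as a presented group with exact relators on four generators of order seven.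

Three of the generators generate a preimage of `J₂` (index 416), two of them one of `U₃(3)` (index 200 in
that), so the cover has at most twice the order of `G₂(4)`.  A table on 8064 points separates the kernel.
-/

set_option autoImplicit false
set_option linter.style.haveILetI false
set_option maxRecDepth 8000

namespace Cfsg.Agent.Lib.ExactCover.G24

open Cfsg.Agent.Lib.CosetEnum Cfsg.Agent.Lib.G24 Matrix
open Cfsg.Agent.Lib.CosetEnum.G24P416 (relWords)

/-- Orders of the generators. -/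
def ord : Fin 4 → ℕ := ![7, 7, 7, 7]

/-- Origins of the relators. -/
def origins : List Origin := [
  .pow 0,
  .pow 1,
  .pow 2,
  .pow 3,
  .exact [2, 1, 2, 0] false [1, 3, 0, 3] 0 1 2 1,
  .exact [3, 1, 2, 0, 0, 3, 3, 3, 0] false [1, 2, 2, 2, 1, 1, 3] 0 1 2 1,
  .exact [] false [0, 0, 0, 3, 3, 1, 2] 0 2 2 1,
  .exact [3, 1, 3, 0, 2, 2, 1] false [0, 3, 3, 1, 2, 0, 2] 0 2 2 1,
  .exact [3, 0, 2, 2, 1] false [0, 3, 3, 1, 2, 0, 2] 0 1 3 3,
  .exact [4, 1, 3, 0, 5, 2, 2, 4, 1, 2, 0, 5, 0, 5] true [1, 4, 1, 3, 0, 5] 2 2 5 1,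
  .exact [] true [2, 4, 2, 1, 1, 3] 0 1 1 3,
  .exact [4] false [5, 0, 0, 3, 5, 1] 2 1 2 3,
  .exact [4, 3, 3, 5, 0] false [1, 4, 2, 2, 5, 0, 3] 4 1 4 1,
  .exact [5, 2, 1, 4] false [5, 0, 3, 4, 0, 0, 0] 2 1 2 2,
  .exact [4, 2, 0] false [1, 3, 5, 0, 0, 3, 5] 2 2 3 1,
  .exact [2, 0, 2, 0, 3, 4, 1, 1] false [0, 0, 5, 2, 1, 3, 1, 3] 0 2 3 2,
  .exact [3, 1, 2, 0, 2, 0, 0, 2, 1, 2, 1, 1, 3, 3] true [0, 0, 3, 0, 3, 1, 1, 3, 1] 2 1 3 2,
  .exact [] false [0, 6, 1, 3, 3, 3, 5, 0] 6 1 3 2,
  .exact [6, 1, 5] false [4, 0, 7, 0, 0, 0, 2, 0, 6] 0 1 0 1,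
  .exact [3, 7, 3, 7, 1, 6, 2, 6, 2, 0, 0, 0, 5, 3] false [2, 4, 1, 1, 1, 3, 7, 3, 7] 0 1 0 1,
  .exact [5, 3, 1, 2, 4, 0, 0, 0, 7, 0, 3, 5] false [4, 2, 1, 6, 1, 1, 1, 5, 3] 0 1 0 1,
  .exact [4, 0, 0, 2, 0, 5, 5, 6, 2, 6, 5] true [7, 3, 7, 4, 4, 1, 3, 1, 1] 4 1 5 1,
  .exact [6, 2, 1, 4, 2, 0, 3, 5, 0, 3, 7, 0, 0, 4, 4, 1] true [5, 5, 1, 1, 6, 2, 1, 4, 2] 0 1 1 1,
  .exact [3, 3] false [2, 2, 0, 2, 0, 3, 6, 2, 6] 2 1 0 1,
  .exact [] true [2, 0, 5, 5, 6, 2, 6, 4, 4] 0 1 1 1,
  .exact [2, 2, 0, 2, 6, 2, 6, 3, 7, 3, 1, 3, 3, 0, 2, 1, 7] true [0, 3, 1, 2, 2, 0, 2, 6, 2] 6 1 7 1,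
  .exact [6, 0, 7, 3, 0, 4, 3, 3] false [2, 2, 5, 1, 2, 6, 1, 7, 0] 2 1 1 1,
  .exact [2, 0, 7, 3] false [2, 6, 1, 3, 0, 2, 2, 5, 0] 6 1 4 1,
  .exact [] true [2, 4, 4, 2, 4, 2, 7, 1, 4] 2 1 1 1,
  .exact [2] false [3, 0, 0, 0, 2, 2, 7, 3, 7] 0 1 1 2,
  .exact [5, 3, 4, 0, 0, 0, 4, 7, 2, 2, 1] false [0, 3, 3, 6, 5, 1, 1, 1, 5] 2 1 2 2]

theorem valid : Valid ord [] relWords origins := by decide +kernel

/-- The code of an entry. -/
def code : K4 → ℕ
  | .z => 0
  | .e => 1
  | .w => 2
  | .v => 3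

/-- The entry of a code. -/
def ofCode : ℕ → K4
  | 0 => .z
  | 1 => .e
  | 2 => .w
  | _ => .v

theorem ofCode_code : ∀ x : K4, ofCode (code x) = x := by decide

theorem code_lt : ∀ x : K4, code x < 4 := by decide

/-- A row vector as a number. -/
def enc (v : Fin 6 → K4) : ℕ :=
  code (v 0) + 4 * code (v 1) + 16 * code (v 2) + 64 * code (v 3) + 256 * code (v 4) + 1024 * code (v 5)

/-- The row vector of a number. -/
def dec (n : ℕ) : Fin 6 → K4 := fun i => ofCode (n / 4 ^ (i : ℕ) % 4)

theorem dec_enc (v : Fin 6 → K4) : dec (enc v) = v := by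
  funext i
  have h0 := code_lt (v 0); have h1 := code_lt (v 1); have h2 := code_lt (v 2)
  have h3 := code_lt (v 3); have h4 := code_lt (v 4); have h5 := code_lt (v 5)
  have e : enc v / 4 ^ (i : ℕ) % 4 = code (v i) := by
    fin_cases i <;> simp only [enc, Fin.reduceFinMk, pow_succ, pow_zero] <;> simp <;> omega
  show ofCode (enc v / 4 ^ (i : ℕ) % 4) = v i
  rw [e, ofCode_code]

/-- One matrix applied to a coded row vector. -/
def wstep (A : M6) (n : ℕ) : ℕ := enc (Matrix.vecMul (dec n) A)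

/-- A list of matrices applied to a coded row vector. -/
noncomputable def runM : List M6 → ℕ → ℕ
  | [], n => n
  | A :: L, n => force (wstep A n) (runM L)

theorem dec_runM (L : List M6) : ∀ n, dec (runM L n) = Matrix.vecMul (dec n) L.prod := by
  induction L with
  | nil => intro n; simp [runM]
  | cons A L ih =>
    intro n
    rw [runM, force_eq, ih, wstep, dec_enc, Matrix.vecMul_vecMul, List.prod_cons]

/-- Two lists act alike on the basis. -/
noncomputable def sameAct (L L' : List M6) : Bool :=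
  allBelow 6 fun i => Nat.beq (runM L (4 ^ i)) (runM L' (4 ^ i))

theorem dec_pow : ∀ i : Fin 6, dec (4 ^ (i : ℕ)) = Pi.single i 1 := by decide +kernel

theorem prod_eq_of_sameAct {L L' : List M6} (h : sameAct L L' = true) : L.prod = L'.prod := by
  ext i j
  have h1 := Nat.eq_of_beq_eq_true (allBelow_iff.1 h i i.2)
  have h2 := congrFun (congrArg dec h1) j
  rwa [dec_runM, dec_runM, dec_pow, Matrix.single_one_vecMul, Matrix.single_one_vecMul] at h2

/-- The root elements of a list as matrices. -/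
def rootMats (w : List (Fin 12 × K4)) : List M6 := w.map fun p => xm p.1 p.2

/-- A root element in the group. -/
noncomputable def rg (p : Fin 12 × K4) : G6 := ⟨xg p.1 p.2, xg_mem p.1 p.2⟩

/-- The generators. -/
noncomputable def genS (i : Fin 4) : G6 := ((rootWords.getD i.val []).map rg).prod

/-- The matrix of a letter. -/
def lmat (g : ℕ) : M6 := letterMats.getD g 1

theorem coe_prod (L : List G6) :
    (((L.prod : G6) : GL (Fin 6) K4) : M6) = (L.map fun x => (((x : G6) : GL (Fin 6) K4) : M6)).prod := by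
  induction L with
  | nil => rfl
  | cons x L ih => rw [List.prod_cons, List.map_cons, List.prod_cons, Subgroup.coe_mul, Units.val_mul, ih]

theorem gen_check : (List.range 4).all (fun i =>
    sameAct (rootMats (rootWords.getD i [])) [lmat (2 * i)] &&
      sameAct [lmat (2 * i), lmat (2 * i + 1)] [] && sameAct (List.replicate 7 (lmat (2 * i))) []) = true := by
  decide +kernel

theorem coe_genS (i : Fin 4) : (((genS i : G6) : GL (Fin 6) K4) : M6) = lmat (2 * i.val) := by
  have h := List.all_eq_true.1 gen_check i (List.mem_range.2 i.2)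
  simp only [Bool.and_eq_true] at h
  have h1 := prod_eq_of_sameAct h.1.1
  rw [genS, coe_prod, List.map_map]
  simpa [rootMats, Function.comp_def, rg, xg] using h1

theorem coe_genS_inv (i : Fin 4) :
    ((((genS i)⁻¹ : G6) : GL (Fin 6) K4) : M6) = lmat (2 * i.val + 1) := by
  have h := List.all_eq_true.1 gen_check i (List.mem_range.2 i.2)
  simp only [Bool.and_eq_true] at h
  have h1 := prod_eq_of_sameAct h.1.2
  simp only [List.prod_cons, List.prod_nil, mul_one] at h1
  rw [Subgroup.coe_inv]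
  exact (left_inv_eq_right_inv (Units.inv_mul _) (by rw [coe_genS]; exact h1))

/-- The value of the letters in the group of matrices. -/
noncomputable def ι : G6 →* M6 := (Units.coeHom M6).comp G6.subtype

theorem ι_injective : Function.Injective ι := fun _ _ h => Subtype.ext (Units.ext h)

theorem eval (l : List ℕ) (hl : ∀ g ∈ l, g < 2 * 4) :
    ι (FreeGroup.lift genS (word 4 l)) = (l.map lmat).prod :=
  map_lift_word genS ι lmat
    (forall_lt_two_mul fun i => by
      rw [lift_word_pos, lift_word_neg]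
      exact ⟨coe_genS i, coe_genS_inv i⟩) l hl

theorem eval_one (l : List ℕ) (hl : ∀ g ∈ l, g < 2 * 4) (h : sameAct (l.map lmat) [] = true) :
    FreeGroup.lift genS (word 4 l) = 1 :=
  ι_injective ((eval l hl).trans ((prod_eq_of_sameAct h).trans (by rw [List.prod_nil, map_one])))

theorem gen_pow : ∀ i, genS i ^ ord i = 1 := by
  intro i
  have h := List.all_eq_true.1 gen_check i (List.mem_range.2 i.2)
  simp only [Bool.and_eq_true] at h
  have h1 := prod_eq_of_sameAct h.2
  rw [List.prod_replicate, List.prod_nil] at h1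
  refine ι_injective ?_
  rw [map_pow, map_one, show ord i = 7 by revert i; decide]
  exact (congrArg (· ^ 7) (coe_genS i)).trans h1

theorem rels_check : relWords.all (fun l => (l.all fun g => Nat.blt g 8) && sameAct (l.map lmat) []) = true := by
  decide +kernel

theorem gen_rels : ∀ r ∈ relSet 4 relWords, FreeGroup.lift genS r = 1 := by
  intro r hr
  obtain ⟨l, hl, rfl⟩ := List.mem_map.1 hr
  have h := List.all_eq_true.1 rels_check l hl
  simp only [Bool.and_eq_true, List.all_eq_true, Nat.blt_eq] at h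
  exact eval_one l h.1 h.2

/-- The cover. -/
abbrev P : Type := PresentedGroup (relSet 4 relWords)

/-- The covering map. -/
noncomputable def σ : P →* G6 := PresentedGroup.toGroup gen_rels

theorem ισ_el (l : List ℕ) (hl : ∀ g ∈ l, g < 2 * 4) : ι (σ (el relWords l)) = (l.map lmat).prod :=
  eval l hl

/-- The nonzero parameter of an index. -/
def par3 : ℕ → K4
  | 0 => .e
  | 1 => .w
  | _ => .v

theorem surj_check : (List.range 36).all (fun k =>
    ((surjWords.getD k []).all fun g => Nat.blt g 8) &&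
      sameAct ((surjWords.getD k []).map lmat) [xm (Fin.ofNat 12 (k / 3)) (par3 (k % 3))]) = true := by
  decide +kernel

theorem xm_zero : ∀ r : Fin 12, xm r 0 = 1 := by decide +kernel

theorem par3_cases : ∀ t : K4, t = 0 ∨ ∃ m : Fin 3, t = par3 m := by decide +kernel

theorem σ_surjective : Function.Surjective σ := by
  have hle : G6 ≤ σ.range.map G6.subtype := by
    show Subgroup.closure genSet ≤ _
    rw [Subgroup.closure_le]
    rintro _ ⟨r, t, rfl⟩
    rcases par3_cases t with rfl | ⟨m, rfl⟩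
    · refine ⟨1, one_mem _, Units.ext ?_⟩
      show (1 : M6) = xm r 0
      rw [xm_zero]
    have h := List.all_eq_true.1 surj_check (3 * r.val + m.val) (List.mem_range.2 (by omega))
    simp only [Bool.and_eq_true, List.all_eq_true, Nat.blt_eq] at h
    have h1 := prod_eq_of_sameAct h.2
    rw [show (3 * r.val + m.val) / 3 = r.val by omega, show (3 * r.val + m.val) % 3 = m.val by omega,
      show Fin.ofNat 12 r.val = r from Fin.ext (Nat.mod_eq_of_lt r.2), List.prod_singleton] at h1
    exact ⟨σ (el relWords _), ⟨_, rfl⟩, Units.ext ((ισ_el _ h.1).trans h1)⟩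
  intro x
  obtain ⟨y, ⟨p, rfl⟩, hy⟩ := hle x.2
  exact ⟨p, Subtype.ext hy⟩

theorem card_G6 : Nat.card G6 = 251596800 :=
  (Nat.card_congr equivGroup.toEquiv).trans Order.card_group

/-- The first two of three names. -/
def inc₂ : Fin 2 → Fin 3 := ![0, 1]

/-- The first three of four names. -/
def inc₃ : Fin 3 → Fin 4 := ![0, 1, 2]

theorem inc₂_check : ∀ r ∈ G24U864.relWords.map (word 2),
    FreeGroup.map inc₂ r ∈ G24Q200.relWords.map (word 3) := by
  decide +kernel

theorem inc₃_check : ∀ r ∈ G24Q200.relWords.map (word 3),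
    FreeGroup.map inc₃ r ∈ relWords.map (word 4) := by
  decide +kernel

theorem hHL₂ : ∀ l, l ∈ G24Q200.subWords ↔ ∃ i : Fin 2, l = [2 * (inc₂ i).val] := by
  intro l
  simp [G24Q200.subWords, Fin.exists_fin_two, inc₂]

theorem hHL₃ : ∀ l, l ∈ G24P416.subWords ↔ ∃ i : Fin 3, l = [2 * (inc₃ i).val] := by
  intro l
  simp [G24P416.subWords, Fin.exists_fin_succ, inc₃]

theorem card_P_le : Nat.card P ≤ 7 * 864 * 200 * 416 ∧ Finite P := by
  have h1 := card_le_of_cyclic (n := 2) (R := G24U864.relWords) (g := 0) (o := 7) (by norm_num) (by norm_num)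
    (by decide +kernel) G24U864.enum
  have h2 := card_le_of_range inc₂ inc₂_check _ hHL₂ G24Q200.enum h1.1 h1.2
  exact card_le_of_range inc₃ inc₃_check _ hHL₃ G24P416.enum h2.1 h2.2

instance finite_P : Finite P := card_P_le.2

theorem card_ker_le : Nat.card σ.ker ≤ 2 := by
  have h := Subgroup.card_mul_index σ.ker
  rw [Subgroup.index_ker, MonoidHom.range_eq_top.2 σ_surjective, Subgroup.card_top, card_G6] at h
  have h2 := card_P_le.1
  omega

/-- Words for the elements of the kernel. -/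
def zw (a : Multiplicative (ZMod 2)) : List ℕ :=
  (List.replicate (Multiplicative.toAdd a).val zWord).flatten

theorem zw_lt : ∀ a : Multiplicative (ZMod 2), ∀ g ∈ zw a, g < 2 * 4 := by decide +kernel

theorem zw_one : ∀ a : Multiplicative (ZMod 2), sameAct ((zw a).map lmat) [] = true := by decide +kernel

theorem scan_check :
    (∀ a b : Multiplicative (ZMod 2), scan (2 * 4) G24A8064.table (zw a) 0 = scan (2 * 4) G24A8064.table (zw b) 0 → a = b) ∧
    (∀ a b : Multiplicative (ZMod 2),
      scan (2 * 4) G24A8064.table (zw a ++ zw b) 0 = scan (2 * 4) G24A8064.table (zw (a * b)) 0) ∧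
    (∀ a : Multiplicative (ZMod 2), ∀ g < 2 * 4,
      scan (2 * 4) G24A8064.table (zw a ++ [g] ++ invWord (zw a) ++ [flip g]) 0 =
        scan (2 * 4) G24A8064.table [] 0) ∧
    scan (2 * 4) G24A8064.table zWord 0 ≠ scan (2 * 4) G24A8064.table [] 0 := by
  decide +kernel

theorem ker_cyclic :
    Nonempty (σ.ker ≃* Multiplicative (ZMod 2)) ∧ σ.ker ≤ Subgroup.center P := by
  classical
  obtain ⟨act⟩ := G24A8064.act
  let o : Obs 4 relWords ℕ := act.obs
  have ho : o.onWord = fun l => scan (2 * 4) G24A8064.table l 0 := rfl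
  have hz : ∀ g ∈ zWord, g < 2 * 4 := by decide +kernel
  have hσz : σ (el relWords zWord) = 1 := eval_one _ hz (by decide +kernel)
  have hval : o.val (el relWords zWord) ≠ o.val 1 := by
    rw [← el_nil (n := 4) (R := relWords), o.onWord_eq _ hz, o.onWord_eq [] (by simp), ho]
    exact scan_check.2.2.2
  have hsep : ∀ x ∈ σ.ker, o.val x = o.val 1 → x = 1 := by
    intro x hx hv
    by_contra hne
    haveI : Fintype σ.ker := Fintype.ofFinite _
    have h3 : ({(1 : σ.ker), ⟨el relWords zWord, hσz⟩, ⟨x, hx⟩} : Finset σ.ker).card = 3 := by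
      rw [Finset.card_insert_of_notMem, Finset.card_insert_of_notMem, Finset.card_singleton]
      · simp only [Finset.mem_singleton]
        intro e
        exact hval (by rw [show el relWords zWord = x from congrArg Subtype.val e, hv])
      · simp only [Finset.mem_insert, Finset.mem_singleton]
        rintro (e | e)
        · exact hval (by rw [show el relWords zWord = (1 : P) from (congrArg Subtype.val e).symm])
        · exact hne (congrArg Subtype.val e).symm
    have := Finset.card_le_univ ({(1 : σ.ker), ⟨el relWords zWord, hσz⟩, ⟨x, hx⟩} : Finset σ.ker)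
    rw [h3, ← Nat.card_eq_fintype_card] at this
    have := card_ker_le
    omega
  refine ker_spec σ o hsep (by simpa [Nat.card_eq_fintype_card] using card_ker_le) zw
    zw_lt (fun a => eval_one _ (zw_lt a) (zw_one a)) ?_ ?_ ?_ <;>
    rw [ho]
  · exact scan_check.1
  · exact scan_check.2.1
  · exact scan_check.2.2.1

theorem gen_pow_P : ∀ i, (PresentedGroup.of i : P) ^ ord i = 1 := by
  intro i
  have hm : FreeGroup.of i ^ ord i ∈ relSet 4 relWords := by
    show _ ∈ relWords.map (word 4)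
    revert i; decide +kernel
  rw [PresentedGroup.of, ← map_pow]
  exact PresentedGroup.one_of_mem hm

theorem σ_isStem : Cfsg.IsStemExtension σ :=
  ⟨σ_surjective, ker_cyclic.2, ker_le_commutator σ ord gen_pow_P fun i => by
    rw [Nat.card_congr ker_cyclic.1.some.toEquiv, Nat.card_eq_fintype_card]
    revert i; decide⟩

/-- The multiplier of `G₂(4)`. -/
theorem multiplier {F : Type*} [Field F] [Fintype F] (hF : Fintype.card F = 4) :
    Cfsg.HasCyclicSchurMultiplier ↥(Cfsg.Lie.chevG2.group F) 2 := by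
  let f : K4 ≃+* F := FiniteField.ringEquivOfCardEq (by rw [K4.card_eq, hF])
  haveI : Finite G6 := Nat.finite_of_card_ne_zero (by rw [card_G6]; norm_num)
  exact hasSchurMultiplier_of_universal σ σ_isStem ker_cyclic.1.some
    (equivGroup.trans (Transport.groupEquiv Cfsg.Lie.chevG2 f)) fun _ _ _ τ hτ =>
      map_ker_surjective genS ord [] relWords valid gen_pow gen_rels (by simp) σ_surjective τ hτ
        fun i => by
          refine coprime_ker_of_sq_not_dvd τ hτ (by fin_cases i <;> norm_num [ord]) ?_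
          rw [card_G6]
          revert i; decide

end Cfsg.Agent.Lib.ExactCover.G24
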