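import Cfsg.Agent.Lib.CosetEnum.L27x48.Enum
import Cfsg.Agent.Lib.CosetEnum.L34x2880.Enum
import Cfsg.Agent.Lib.CosetEnum.L34x1440.Enum
import Cfsg.Agent.Lib.ExactCover.Alt
import Cfsg.Agent.Lib.Golay.PSL34
import Cfsg.Agent.Lib.Linear.Transvection
import Cfsg.Prelude.Def_KGroupFacts

/-!
The cover of `PSL(3,4)` with kernel `Z/3 × Z/4 × Z/4`, as a presented group with exact relators.

Two of the generators generate a preimage of `L₂(7)`, of order at most `336`; it has index `2880`.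
A second coset table separates the kernel elements inside that subgroup.
-/

set_option autoImplicit false
set_option linter.style.haveILetI false
set_option maxRecDepth 4000
set_option synthInstance.maxSize 2000

namespace Cfsg.Agent.Lib.ExactCover.L34

open Cfsg.Agent.Lib.CosetEnum Cfsg.Agent.Lib.Golay.PSL34 Equiv
open Cfsg.Agent.Lib.CosetEnum.L34x2880 (relWords pres)

universe u

/-- `PSL(3,4)` over the coded field. -/
abbrev G : Type := Matrix.ProjectiveSpecialLinearGroup (Fin 3) F4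

/-- Orders of the generators. -/
def ord : Fin 3 → ℕ := ![7, 7, 7]

/-- Origins of the relators. -/
def origins : List Origin := [
  .pow 0,
  .pow 1,
  .pow 2,
  .exact [] false [0, 0, 3, 3] 0 1 2 1,
  .exact [2, 2, 1, 3, 3, 0, 0] false [1, 1, 2, 2] 0 1 2 1,
  .exact [2, 0, 3, 1, 3, 0, 2, 1, 3] false [2, 0, 3, 1] 2 1 0 1,
  .exact [] true [2, 2, 0, 2] 0 1 1 2,
  .exact [] true [3, 3, 1, 3] 0 1 1 2,
  .exact [] false [0, 0, 0, 2] 0 1 2 2,
  .exact [4, 3] false [2, 5, 0] 2 1 4 1,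
  .exact [2, 4, 1, 5, 3, 0, 4] false [5, 1, 2, 4] 0 1 2 1,
  .exact [3] false [2, 0, 3, 4] 0 1 5 1,
  .exact [2, 4, 3, 5, 3, 0, 4] false [5, 1, 2, 4] 2 1 0 1,
  .exact [4, 3] false [2, 5, 0] 2 2 4 2,
  .exact [4] false [5, 0, 3, 3] 4 1 1 1,
  .exact [] false [0, 3, 4, 3] 4 1 2 1,
  .exact [5, 3, 0, 4] false [5, 1, 2, 4] 0 2 2 2,
  .exact [5, 2, 1, 3] false [2, 0, 3, 4] 0 2 5 2,
  .exact [5, 1, 2, 4, 3, 3, 5, 3, 0, 4] false [5, 1, 2, 4] 2 2 0 2,
  .exact [2, 4, 3, 4, 3, 5, 2, 5, 3, 0] false [1, 2, 4, 3, 4] 2 1 4 1,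
  .exact [4, 3] false [2, 5, 0] 2 3 4 3,
  .exact [] true [5, 0, 3, 3] 4 2 1 2,
  .exact [] false [0, 3, 4, 3] 4 2 2 2,
  .exact [] false [0, 0, 4, 2, 2] 0 1 5 2,
  .exact [2, 2, 5, 3, 1] false [0, 2, 4, 3, 3] 0 1 5 2,
  .exact [2, 0, 5, 1, 1] false [0, 0, 4, 1, 3] 0 2 5 1,
  .exact [3, 1, 5, 3, 1] false [0, 2, 4, 0, 2] 0 2 5 1,
  .exact [5, 1, 1] false [0, 0, 4, 0, 0] 2 1 4 2,
  .exact [3, 0, 0, 5, 3, 1] false [0, 2, 4, 1, 1] 2 1 4 2]

theorem valid : Valid ord [] relWords origins := by decide +kernel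

/-- The generators as matrices. -/
def genS : Fin 3 → SL34 := ![⟨!![F4.l, F4.o, F4.u; F4.l, F4.w, F4.u; F4.o, F4.u, F4.u], by decide +kernel⟩,
  ⟨!![F4.l, F4.l, F4.w; F4.l, F4.l, F4.o; F4.o, F4.u, F4.u], by decide +kernel⟩,
  ⟨!![F4.o, F4.l, F4.l; F4.w, F4.u, F4.u; F4.w, F4.o, F4.u], by decide +kernel⟩]

/-- The generators. -/
def gen (i : Fin 3) : G := QuotientGroup.mk (genS i)

/-- Their actions on the points of the plane. -/
def genP : Fin 3 → Perm (Fin 21) := ![permOfList 21 [10, 3, 13, 19, 8, 9, 11, 0, 12, 20, 5, 2, 15, 14, 18, 1, 6, 7, 16, 4, 17] [7, 15, 11, 1, 19, 10, 16, 17, 4, 5, 0, 6, 8, 2, 13, 12, 18, 20, 14, 3, 9] (by decide +kernel),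
  permOfList 21 [7, 12, 13, 18, 2, 9, 14, 20, 3, 0, 5, 8, 6, 11, 19, 1, 15, 10, 4, 16, 17] [9, 15, 4, 8, 18, 10, 12, 0, 11, 5, 17, 13, 1, 2, 6, 16, 19, 20, 3, 14, 7] (by decide +kernel),
  permOfList 21 [20, 17, 0, 19, 18, 2, 10, 15, 5, 11, 4, 6, 13, 14, 7, 3, 9, 8, 16, 12, 1] [2, 20, 5, 15, 10, 8, 11, 14, 17, 16, 6, 9, 19, 12, 13, 7, 18, 1, 4, 3, 0] (by decide +kernel)]

theorem genP_eq : ∀ i, actHom (genS i) = genP i := by decide +kernel

/-- The action of `PSL(3,4)` on the points. -/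
noncomputable def ι : G →* Perm (Fin 21) := QuotientGroup.lift _ actHom ker_actHom.ge

theorem ι_injective : Function.Injective ι := by
  rw [injective_iff_map_eq_one]
  intro x hx
  obtain ⟨s, rfl⟩ := QuotientGroup.mk'_surjective _ x
  have : s ∈ actHom.ker := hx
  rw [ker_actHom] at this
  exact (QuotientGroup.eq_one_iff s).2 this

/-- The letters as permutations. -/
def ML : ℕ → Perm (Fin 21)
  | 0 => genP 0
  | 1 => (genP 0)⁻¹
  | 2 => genP 1
  | 3 => (genP 1)⁻¹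
  | 4 => genP 2
  | _ => (genP 2)⁻¹

theorem eval (l : List ℕ) (hl : ∀ g ∈ l, g < 2 * 3) :
    ι (FreeGroup.lift gen (word 3 l)) = (l.map ML).prod :=
  map_lift_word gen ι ML
    (forall_lt_two_mul fun i => by
      rw [lift_word_pos, lift_word_neg, map_inv]
      have h : ι (gen i) = genP i := genP_eq i
      rw [h]
      fin_cases i <;> exact ⟨rfl, rfl⟩) l hl

theorem eval_one (l : List ℕ) (hl : ∀ g ∈ l, g < 2 * 3) (h : (l.map ML).prod = 1) :
    FreeGroup.lift gen (word 3 l) = 1 :=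
  ι_injective ((eval l hl).trans (h.trans (map_one ι).symm))

theorem gen_pow : ∀ i, gen i ^ ord i = 1 := by
  intro i
  refine ι_injective ?_
  have h : ι (gen i) = genP i := genP_eq i
  rw [map_pow, h, map_one]
  revert i; decide +kernel

theorem rels_check : ∀ l ∈ relWords, (∀ g ∈ l, g < 2 * 3) ∧ (l.map ML).prod = 1 := by decide +kernel

theorem gen_rels : ∀ r ∈ relSet 3 relWords, FreeGroup.lift gen r = 1 := by
  intro r hr
  obtain ⟨l, hl, rfl⟩ := List.mem_map.1 hr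
  exact eval_one l (rels_check l hl).1 (rels_check l hl).2

/-- The cover. -/
abbrev P : Type := PresentedGroup (relSet 3 relWords)

/-- The covering map. -/
noncomputable def σ : P →* G := PresentedGroup.toGroup gen_rels

theorem ισ_el (l : List ℕ) (hl : ∀ g ∈ l, g < 2 * 3) : ι (σ (el relWords l)) = (l.map ML).prod :=
  eval l hl

/-- Words for transvections. -/
def transWords : List (List ℕ) := [
  [3, 4, 4, 3, 1, 5],
  [4, 4, 0, 3, 5, 5],
  [0, 0, 3, 1, 1, 3],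
  [0, 3, 1, 4, 4, 3, 3, 4],
  [0, 5, 0, 0, 2, 2, 4, 0],
  [1, 1, 3, 3, 3],
  [0, 4, 2, 0, 5, 3],
  [5, 0, 0, 0, 2, 2, 4],
  [4, 1, 2, 5],
  [0, 5, 0, 2, 5, 2, 4, 4],
  [0, 4, 1, 3, 1, 3, 5, 1],
  [0, 2, 4, 1, 5, 2, 0, 2, 4],
  [2, 5, 5, 2, 2, 5, 2, 4],
  [5, 0, 0, 2, 2, 2, 4],
  [0, 0, 4, 0, 0, 5, 2, 5],
  [5, 1, 2, 4],
  [0, 2, 4, 1, 3, 5, 5, 0],
  [0, 2, 4, 1, 5, 0, 2, 5]]

theorem trans_check : ∀ (i j : Fin 3) (c : F4) (h : i ≠ j), c ≠ 0 →
    ∃ l ∈ transWords, (∀ g ∈ l, g < 2 * 3) ∧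
      (l.map ML).prod = actHom (Matrix.SpecialLinearGroup.transvection h c) := by
  decide +kernel

theorem σ_surjective : Function.Surjective σ := by
  have htop : σ.range.comap (QuotientGroup.mk' _) = ⊤ := by
    refine Linear.sl_eq_top_of_transvection_mem _ ?_
    intro i j h c
    rw [Subgroup.mem_comap]
    by_cases hc : c = 0
    · subst hc
      simp
    obtain ⟨l, -, hl, he⟩ := trans_check i j c h hc
    exact ⟨el relWords l, ι_injective ((ισ_el l hl).trans he)⟩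
  intro x
  obtain ⟨s, rfl⟩ := QuotientGroup.mk'_surjective _ x
  have : s ∈ σ.range.comap (QuotientGroup.mk' _) := htop ▸ Subgroup.mem_top s
  exact this

/-- The central involution inside the subgroup of the table. -/
def k₀ : List ℕ := [2, 1, 2, 1]

/-- Words for the elements of the kernel. -/
def zw (a : Multiplicative (ZMod 3 × ZMod 4 × ZMod 4)) : List ℕ :=
  (List.replicate (Multiplicative.toAdd a).1.val [1, 1, 4, 0, 0, 4, 4, 0, 5, 5, 5, 1]).flatten ++
    ((List.replicate (Multiplicative.toAdd a).2.1.val [1, 2, 4, 0, 3, 4, 2, 1]).flatten ++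
      (List.replicate (Multiplicative.toAdd a).2.2.val [1, 2, 5, 3, 3, 0, 5, 1]).flatten)

theorem zw_check : ∀ a : Multiplicative (ZMod 3 × ZMod 4 × ZMod 4),
    (∀ g ∈ zw a, g < 2 * 3) ∧ ((zw a).map ML).prod = 1 := by
  decide +kernel

/-- What a kernel element looks like in the two tables. -/
noncomputable def view (l : List ℕ) : ℕ × ℕ :=
  (scan (2 * 3) L34x2880.table l 0, scan (2 * 3) L34x1440.table l 0)

theorem relWords_eq : L34x1440.relWords = relWords := by decide +kernel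

theorem exists_act₂ : Nonempty (Act 3 relWords 1440 L34x1440.table) := by
  rw [← relWords_eq]
  obtain ⟨a, -⟩ := exists_act_of_enum L34x1440.enum
  exact ⟨a⟩

/-- The preimage of `L₂(7)` as a presented group. -/
abbrev Q : Type := PresentedGroup (relSet 2 L27x48.relWords)

/-- The first two of three names. -/
def inc : Fin 2 → Fin 3 := ![0, 1]

theorem inc_rels : ∀ r ∈ relSet 2 L27x48.relWords,
    FreeGroup.lift (fun i => (PresentedGroup.of (inc i) : P)) r = 1 := by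
  intro r hr
  have h : ∀ r ∈ L27x48.relWords.map (word 2), FreeGroup.map inc r ∈ relWords.map (word 3) := by
    decide +kernel
  have h1 : (FreeGroup.lift fun i => (PresentedGroup.of (inc i) : P)) =
      (PresentedGroup.mk (relSet 3 relWords)).comp (FreeGroup.map inc) := by
    apply FreeGroup.ext_hom
    intro i
    simp [PresentedGroup.of]
  rw [h1, MonoidHom.comp_apply]
  exact PresentedGroup.one_of_mem (h r hr)

/-- Its map into the cover. -/
noncomputable def f : Q →* P := PresentedGroup.toGroup inc_rels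

theorem f_el : ∀ g < 2 * 2, f (el L27x48.relWords [g]) = el relWords [g] := by
  refine forall_lt_two_mul fun i => ⟨?_, ?_⟩
  · rw [el_pos]
    refine (PresentedGroup.toGroup.of _).trans ?_
    fin_cases i <;> exact (el_pos (R := relWords) _).symm
  · rw [show 2 * i.val + 1 = flip (2 * i.val) by simp [flip], el_flip, el_flip, map_inv, inv_inj,
      el_pos]
    refine (PresentedGroup.toGroup.of _).trans ?_
    fin_cases i <;> exact (el_pos (R := relWords) _).symm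

theorem card_Q_le : Nat.card Q ≤ 7 * 48 ∧ Finite Q := by
  set B : Q := el L27x48.relWords [0] with hB
  have hsub : subOf L27x48.letters L27x48.pres L27x48.subWords = Subgroup.zpowers B := by
    rw [show L27x48.subWords = [[0]] from rfl]
    refine (subOf_eq (n := 2) (by decide)).trans ?_
    rw [Subgroup.zpowers_eq_closure]
    congr 1
    ext x
    rw [Set.mem_singleton_iff]
    constructor
    · rintro ⟨l, hl, rfl⟩
      rw [List.mem_singleton.1 hl, hB]
    · rintro rfl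
      exact ⟨[0], List.mem_singleton.2 rfl, rfl⟩
  have hBpow : B ^ 7 = 1 := by
    have hm : word 2 (List.replicate 7 0) ∈ relSet 2 L27x48.relWords :=
      List.mem_map.2 ⟨List.replicate 7 0, by decide, rfl⟩
    rw [hB, ← el_replicate]
    exact PresentedGroup.one_of_mem hm
  have hcard : Nat.card Q = Nat.card (Subgroup.zpowers B) * 48 := by
    rw [← hsub]; exact card_eq_of_enum L27x48.enum
  rw [Nat.card_zpowers] at hcard
  have hdvd : orderOf B ∣ 7 := orderOf_dvd_of_pow_eq_one hBpow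
  have hpos : 0 < orderOf B := Nat.pos_of_dvd_of_pos hdvd (by norm_num)
  exact ⟨hcard.trans_le (Nat.mul_le_mul_right _ (Nat.le_of_dvd (by norm_num) hdvd)),
    Nat.finite_of_card_ne_zero (by rw [hcard]; positivity)⟩

theorem subOf_eq_range : subOf L34x2880.letters pres L34x2880.subWords = f.range := by
  rw [show L34x2880.subWords = [[0], [2]] from rfl]
  refine (subOf_eq (n := 3) (by decide)).trans (le_antisymm ?_ ?_)
  · rw [Subgroup.closure_le]
    rintro _ ⟨l, hl, rfl⟩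
    simp only [List.mem_cons, List.not_mem_nil, or_false] at hl
    rcases hl with rfl | rfl
    · exact ⟨_, f_el 0 (by norm_num)⟩
    · exact ⟨_, f_el 2 (by norm_num)⟩
  · rw [MonoidHom.range_eq_map, ← PresentedGroup.closure_range_of, MonoidHom.map_closure,
      Subgroup.closure_le]
    rintro _ ⟨_, ⟨i, rfl⟩, rfl⟩
    refine Subgroup.subset_closure ⟨[2 * i.val], ?_, ?_⟩
    · fin_cases i <;> simp
    · rw [← el_pos, f_el _ (by omega)]

theorem card_P_le : Nat.card P ≤ 7 * 48 * 2880 ∧ Finite P := by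
  haveI := card_Q_le.2
  haveI : Finite f.range := Finite.of_surjective _ f.rangeRestrict_surjective
  have h : Nat.card P = Nat.card f.range * 2880 := by
    rw [← subOf_eq_range]; exact card_eq_of_enum L34x2880.enum
  refine ⟨h.trans_le (Nat.mul_le_mul_right _ ((Nat.card_le_card_of_surjective _
    f.rangeRestrict_surjective).trans card_Q_le.1)), Nat.finite_of_card_ne_zero ?_⟩
  rw [h]
  exact mul_ne_zero Nat.card_pos.ne' (by norm_num)

instance finite_P : Finite P := card_P_le.2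

theorem card_G : Nat.card G = 20160 := card_PSL

theorem card_ker_le : Nat.card σ.ker ≤ 48 := by
  have h := Subgroup.card_mul_index σ.ker
  rw [Subgroup.index_ker, MonoidHom.range_eq_top.2 σ_surjective, Subgroup.card_top, card_G] at h
  have h2 := card_P_le.1
  rw [← h] at h2
  exact Nat.le_of_mul_le_mul_right (h2.trans (by decide)) (by decide)

/-- Words showing that the image of the subgroup has at least `168` elements. -/
def subEls : List (List ℕ) := [
  [],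
  [0],
  [1],
  [2],
  [3],
  [0, 0],
  [0, 2],
  [0, 3],
  [1, 1],
  [1, 2],
  [1, 3],
  [2, 0],
  [2, 2],
  [3, 1],
  [3, 3],
  [0, 0, 0],
  [0, 0, 2],
  [0, 0, 3],
  [0, 2, 0],
  [0, 2, 2],
  [0, 3, 1],
  [0, 3, 3],
  [1, 1, 1],
  [1, 1, 2],
  [1, 1, 3],
  [1, 2, 0],
  [1, 2, 2],
  [1, 3, 1],
  [1, 3, 3],
  [2, 0, 0],
  [2, 0, 2],
  [2, 0, 3],
  [2, 2, 0],
  [2, 2, 2],
  [3, 1, 1],
  [3, 1, 2],
  [3, 1, 3],
  [3, 3, 1],
  [3, 3, 3],
  [0, 0, 0, 2],
  [0, 0, 0, 3],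
  [0, 0, 2, 0],
  [0, 0, 2, 2],
  [0, 0, 3, 1],
  [0, 0, 3, 3],
  [0, 2, 0, 0],
  [0, 2, 0, 2],
  [0, 2, 0, 3],
  [0, 2, 2, 0],
  [0, 2, 2, 2],
  [0, 3, 1, 1],
  [0, 3, 1, 2],
  [0, 3, 1, 3],
  [0, 3, 3, 1],
  [0, 3, 3, 3],
  [1, 1, 1, 2],
  [1, 1, 1, 3],
  [1, 1, 2, 0],
  [1, 1, 2, 2],
  [1, 1, 3, 1],
  [1, 1, 3, 3],
  [1, 2, 0, 0],
  [1, 2, 0, 2],
  [1, 2, 0, 3],
  [1, 2, 2, 0],
  [1, 2, 2, 2],
  [1, 3, 1, 1],
  [1, 3, 1, 2],
  [1, 3, 1, 3],
  [1, 3, 3, 1],
  [1, 3, 3, 3],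
  [2, 0, 0, 0],
  [2, 0, 0, 2],
  [2, 0, 0, 3],
  [2, 0, 2, 2],
  [2, 0, 3, 1],
  [2, 0, 3, 3],
  [2, 2, 0, 0],
  [2, 2, 0, 2],
  [2, 2, 0, 3],
  [2, 2, 2, 0],
  [3, 1, 1, 1],
  [3, 1, 1, 2],
  [3, 1, 1, 3],
  [3, 1, 2, 0],
  [3, 1, 2, 2],
  [3, 1, 3, 3],
  [3, 3, 1, 1],
  [3, 3, 1, 2],
  [3, 3, 1, 3],
  [3, 3, 3, 1],
  [0, 0, 0, 2, 0],
  [0, 0, 0, 2, 2],
  [0, 0, 0, 3, 1],
  [0, 0, 0, 3, 3],
  [0, 0, 2, 0, 2],
  [0, 0, 2, 0, 3],
  [0, 0, 2, 2, 0],
  [0, 0, 2, 2, 2],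
  [0, 0, 3, 1, 1],
  [0, 0, 3, 1, 2],
  [0, 0, 3, 1, 3],
  [0, 0, 3, 3, 1],
  [0, 0, 3, 3, 3],
  [0, 2, 0, 0, 0],
  [0, 2, 0, 0, 3],
  [0, 2, 0, 2, 2],
  [0, 2, 0, 3, 1],
  [0, 2, 0, 3, 3],
  [0, 2, 2, 0, 0],
  [0, 2, 2, 0, 3],
  [0, 2, 2, 2, 0],
  [0, 3, 1, 1, 2],
  [0, 3, 1, 1, 3],
  [0, 3, 1, 2, 0],
  [0, 3, 1, 2, 2],
  [0, 3, 1, 3, 3],
  [0, 3, 3, 1, 1],
  [0, 3, 3, 1, 2],
  [0, 3, 3, 1, 3],
  [0, 3, 3, 3, 1],
  [1, 1, 1, 2, 0],
  [1, 1, 1, 2, 2],
  [1, 1, 1, 3, 1],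
  [1, 1, 1, 3, 3],
  [1, 1, 2, 0, 0],
  [1, 1, 2, 0, 2],
  [1, 1, 2, 2, 0],
  [1, 1, 2, 2, 2],
  [1, 1, 3, 1, 2],
  [1, 1, 3, 1, 3],
  [1, 1, 3, 3, 3],
  [1, 2, 0, 0, 2],
  [1, 2, 0, 2, 2],
  [1, 2, 0, 3, 1],
  [1, 2, 2, 0, 0],
  [1, 2, 2, 0, 2],
  [1, 2, 2, 2, 0],
  [1, 3, 1, 1, 1],
  [1, 3, 1, 1, 2],
  [1, 3, 1, 2, 0],
  [1, 3, 1, 2, 2],
  [1, 3, 1, 3, 3],
  [1, 3, 3, 1, 2],
  [2, 0, 0, 0, 2],
  [2, 0, 0, 0, 3],
  [2, 0, 0, 2, 2],
  [2, 0, 2, 2, 2],
  [2, 2, 0, 0, 2],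
  [2, 2, 0, 0, 3],
  [2, 2, 2, 0, 2],
  [3, 1, 1, 1, 2],
  [3, 1, 3, 3, 3],
  [3, 3, 1, 1, 2],
  [3, 3, 3, 1, 3],
  [0, 0, 0, 2, 0, 2],
  [0, 0, 0, 2, 2, 2],
  [0, 0, 0, 3, 1, 1],
  [0, 0, 0, 3, 3, 3],
  [0, 0, 2, 0, 2, 2],
  [0, 0, 2, 2, 0, 3],
  [0, 0, 3, 1, 1, 3],
  [0, 0, 3, 1, 2, 0],
  [0, 2, 0, 2, 2, 2],
  [0, 2, 2, 0, 0, 2],
  [0, 3, 3, 1, 1, 2],
  [1, 1, 1, 2, 2, 2],
  [1, 1, 1, 3, 3, 3]]

theorem subEls_check : (∀ l ∈ subEls, ∀ g ∈ l, g < 2 * 2) ∧
    (subEls.map fun l => (List.range 21).map fun i => ((l.map ML).prod (Fin.ofNat 21 i)).val).Nodup := by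
  decide +kernel

theorem two_of_mem : ∀ x ∈ f.range, σ x = 1 → x = 1 ∨ x = el relWords k₀ := by
  haveI := card_Q_le.2
  classical
  let h : Q →* G := σ.comp f
  have hel : ∀ l : List ℕ, (∀ g ∈ l, g < 2 * 2) →
      f (el L27x48.relWords l) = el relWords l := by
    intro l
    induction l with
    | nil => intro _; rw [el_nil, el_nil, map_one]
    | cons g l ih =>
      intro hl
      rw [el_cons, el_cons g l, map_mul, f_el g (hl g List.mem_cons_self),
        ih fun x hx => hl x (List.mem_cons_of_mem _ hx)]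
  have hrange : 168 ≤ Nat.card h.range := by
    let v : G → List ℕ := fun x => (List.range 21).map fun i => (ι x (Fin.ofNat 21 i)).val
    haveI : Fintype h.range := Fintype.ofFinite _
    have hsub : (subEls.map fun l => (List.range 21).map fun i =>
        ((l.map ML).prod (Fin.ofNat 21 i)).val).toFinset ⊆
        (Finset.univ : Finset h.range).image fun x => v x.1 := by
      intro y hy
      obtain ⟨l, hl, rfl⟩ := List.mem_map.1 (List.mem_toFinset.1 hy)
      refine Finset.mem_image.2 ⟨⟨h (el L27x48.relWords l), _, rfl⟩, Finset.mem_univ _, ?_⟩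
      show v (σ (f _)) = _
      rw [hel l (subEls_check.1 l hl)]
      simp only [v, ισ_el l fun g hg => lt_trans (subEls_check.1 l hl g hg) (by norm_num)]
    have := (Finset.card_le_card hsub).trans Finset.card_image_le
    rw [List.toFinset_card_of_nodup subEls_check.2, List.length_map, Finset.card_univ,
      ← Nat.card_eq_fintype_card] at this
    exact this
  have hker : Nat.card h.ker ≤ 2 := by
    have h1 := Subgroup.card_mul_index h.ker
    rw [Subgroup.index_ker] at h1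
    have h2 := card_Q_le.1
    rw [← h1] at h2
    exact Nat.le_of_mul_le_mul_right
      ((Nat.mul_le_mul_left _ hrange).trans (h2.trans (by decide))) (by decide)
  obtain ⟨hk, hk1⟩ : (∀ g ∈ k₀, g < 2 * 2) ∧ (k₀.map ML).prod = 1 := by decide +kernel
  have hk3 : ∀ g ∈ k₀, g < 2 * 3 := fun g hg => lt_trans (hk g hg) (by norm_num)
  obtain ⟨act⟩ := exists_act₂
  have hne : el relWords k₀ ≠ (1 : P) := by
    intro e
    have h0 := act.obs.onWord_eq k₀ hk3
    rw [e, ← el_nil (n := 3) (R := relWords), act.obs.onWord_eq [] (by simp)] at h0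
    have hd : scan (2 * 3) L34x1440.table [] 0 ≠ scan (2 * 3) L34x1440.table k₀ 0 := by decide +kernel
    exact hd h0
  rintro _ ⟨q, rfl⟩ hq
  have hz : el L27x48.relWords k₀ ∈ h.ker := by
    rw [MonoidHom.mem_ker]
    simp only [h, MonoidHom.comp_apply]
    rw [hel k₀ hk]
    exact eval_one k₀ hk3 hk1
  by_contra hcon
  push Not at hcon
  have h3 : ({(1 : h.ker), ⟨_, hz⟩, ⟨q, hq⟩} : Finset h.ker).card = 3 := by
    rw [Finset.card_insert_of_notMem, Finset.card_insert_of_notMem, Finset.card_singleton]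
    · simp only [Finset.mem_singleton]
      intro e
      exact hcon.2 ((congrArg (fun x : h.ker => f x.1) e).symm.trans (hel k₀ hk))
    · simp only [Finset.mem_insert, Finset.mem_singleton]
      rintro (e | e)
      · exact hne ((hel k₀ hk).symm.trans ((congrArg (fun x : h.ker => f x.1) e).symm.trans (map_one f)))
      · exact hcon.1 ((congrArg (fun x : h.ker => f x.1) e).symm.trans (map_one f))
  haveI : Fintype h.ker := Fintype.ofFinite _
  have := Finset.card_le_univ ({(1 : h.ker), ⟨_, hz⟩, ⟨q, hq⟩} : Finset h.ker)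
  rw [h3, ← Nat.card_eq_fintype_card] at this
  omega

theorem scan_check :
    ((∀ a b : Multiplicative (ZMod 3 × ZMod 4 × ZMod 4), view (zw a) = view (zw b) → a = b) ∧
    (∀ a b : Multiplicative (ZMod 3 × ZMod 4 × ZMod 4), view (zw a ++ zw b) = view (zw (a * b))) ∧
    (∀ a : Multiplicative (ZMod 3 × ZMod 4 × ZMod 4), ∀ g < 2 * 3,
      view (zw a ++ [g] ++ invWord (zw a) ++ [flip g]) = view [])) ∧ view k₀ ≠ view [] := by
  decide +kernel

theorem ker_spec' :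
    Nonempty (σ.ker ≃* Multiplicative (ZMod 3 × ZMod 4 × ZMod 4)) ∧ σ.ker ≤ Subgroup.center P := by
  obtain ⟨a₁, h₁⟩ := exists_act_of_enum L34x2880.enum
  obtain ⟨a₂⟩ := exists_act₂
  let o : Obs 3 relWords (ℕ × ℕ) := a₁.obs.prod a₂.obs
  have ho : o.onWord = view := rfl
  have hsep : ∀ x ∈ σ.ker, o.val x = o.val 1 → x = 1 := by
    intro x hx hval
    rcases two_of_mem x (subOf_eq_range ▸ h₁ x (congrArg Prod.fst hval)) hx with rfl | rfl
    · rfl
    · rw [o.onWord_eq k₀ (by decide), ← el_nil (n := 3) (R := relWords),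
        o.onWord_eq [] (by simp), ho] at hval
      exact absurd hval scan_check.2
  refine ker_spec σ o hsep (by simpa [Nat.card_eq_fintype_card] using card_ker_le) zw
    (fun a => (zw_check a).1) (fun a => eval_one _ (zw_check a).1 (zw_check a).2) ?_ ?_ ?_ <;>
    rw [ho]
  · exact scan_check.1.1
  · exact scan_check.1.2.1
  · exact scan_check.1.2.2

theorem gen_pow_P : ∀ i, (PresentedGroup.of i : P) ^ ord i = 1 := by
  intro i
  have hm : FreeGroup.of i ^ ord i ∈ relSet 3 relWords := by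
    show _ ∈ relWords.map (word 3)
    revert i; decide +kernel
  rw [PresentedGroup.of, ← map_pow]
  exact PresentedGroup.one_of_mem hm

theorem σ_isStem : Cfsg.IsStemExtension σ :=
  ⟨σ_surjective, ker_spec'.2, ker_le_commutator σ ord gen_pow_P fun i => by
    rw [Nat.card_congr ker_spec'.1.some.toEquiv, Nat.card_eq_fintype_card]
    revert i; decide⟩

theorem multiplier {H : Type u} [Group H] (e : G ≃* H) :
    Cfsg.HasSchurMultiplier H (Multiplicative (ZMod 3 × ZMod 4 × ZMod 4)) :=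
  hasSchurMultiplier_of_universal σ σ_isStem ker_spec'.1.some e fun _ _ _ τ hτ =>
    map_ker_surjective gen ord [] relWords valid gen_pow gen_rels (by simp) σ_surjective τ hτ
      fun i => by
        refine coprime_ker_of_sq_not_dvd τ hτ (by fin_cases i <;> norm_num [ord]) ?_
        rw [card_G]
        revert i; decide

end Cfsg.Agent.Lib.ExactCover.L34
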