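import Cfsg.Agent.Lib.CosetEnum.M22x4928.Ok
import Cfsg.Agent.Lib.CosetEnum.L211x264.Enum
import Cfsg.Agent.Lib.ExactCover.Alt
import Cfsg.Agent.Lib.ExactCover.Sub
import Cfsg.Agent.Lib.Golay.Simple
import Cfsg.Prelude.Def_KGroupFacts

/-!
The twelve-fold cover of `M22`, as a presented group with exact relators on three generators of order
five.  Two of them generate a preimage of `L₂(11)` (order at most `1320`) of index `4032`; a second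
table, on the cosets of a preimage of `A₆`, separates the kernel inside that subgroup.
-/

set_option autoImplicit false
set_option linter.style.haveILetI false
set_option maxRecDepth 8000
set_option synthInstance.maxSize 2000

namespace Cfsg.Agent.Lib.ExactCover.M22

open Cfsg.Agent.Lib.CosetEnum Cfsg.Agent.Lib.Golay Equiv
open Cfsg.Agent.Lib.Computation (decodeP decodeP_apply getW packW)
open Cfsg.Agent.Lib.CosetEnum.M22x4032 (relWords pres)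

/-- Orders of the generators. -/
def ord : Fin 3 → ℕ := ![5, 5, 5]

/-- Origins of the relators. -/
def origins : List Origin := [
  .pow 0,
  .pow 1,
  .pow 2,
  .exact [2, 0, 3, 1, 2, 1, 3, 0, 2, 1] false [0, 3, 1, 2, 0, 3] 0 1 2 1,
  .exact [2, 0, 2, 0, 3, 3, 1, 2, 2, 1, 3, 1, 3] false [2, 0, 2, 0, 3, 3] 0 1 0 1,
  .exact [2, 2, 1, 3, 3, 0, 2, 0, 2] false [3, 1, 3, 1, 2, 2] 0 1 0 1,
  .exact [] false [0, 0, 3, 1, 3, 1] 2 1 2 1,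
  .exact [2, 0, 2, 0, 3, 1, 3, 1, 3, 0, 0] false [1, 1, 2, 0, 2, 0] 2 1 2 1,
  .exact [] false [0, 2, 1, 2, 2, 0, 3] 0 1 2 1,
  .exact [4, 2, 5, 3, 5, 2, 4, 3] false [2, 5, 3, 4, 2] 4 1 4 1,
  .exact [] false [2, 2, 5, 3] 4 2 4 2,
  .exact [2, 0, 2, 0, 5, 5, 1, 3, 1, 3, 0, 0] false [1, 1, 2, 0, 2, 0] 4 2 4 2,
  .exact [4, 0, 2, 1, 5, 1, 1, 4, 0, 3, 1, 5, 0, 0] false [1, 1, 4, 0, 2, 1, 5] 0 2 2 1,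
  .exact [3, 0, 5, 3, 0, 5, 1, 2, 4, 1, 2, 0, 0] false [1, 1, 3, 0, 5, 3, 0] 4 1 4 2,
  .exact [3, 0, 5, 3, 0] false [1, 2, 4, 1, 2, 0, 0] 4 1 5 2,
  .exact [2, 5, 3, 0, 2, 4, 3, 0, 0, 4, 0, 0, 5] true [1, 1, 5, 1, 1, 2, 5, 3] 0 1 5 1,
  .exact [4, 2, 1, 1, 5, 0, 4, 0, 0, 3, 5, 0, 0, 3, 5] true [2, 1, 1, 4, 2, 1, 1, 5] 0 1 5 1,
  .exact [4, 2, 5, 0, 0, 2, 0, 5, 3, 0, 5] true [1, 2, 4, 1, 3, 1, 1, 4] 2 1 5 1,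
  .exact [4, 3, 3] false [2, 2, 5, 0, 0, 4, 0, 0] 4 1 1 1,
  .exact [] true [5, 5, 1, 2, 4, 0, 5, 3] 0 1 1 2,
  .exact [4, 0, 0, 5, 5, 1, 1, 4] false [5, 0, 0, 4, 4, 1, 1, 5] 0 2 3 1,
  .exact [4, 0, 3, 1, 5, 0, 0, 4, 0, 0, 4] false [5, 1, 1, 5, 1, 1, 4, 0] 2 1 2 2,
  .exact [5, 3] false [2, 4, 0, 0, 4, 4, 1, 1, 5] 0 1 5 1,
  .exact [2, 4, 3, 0, 0, 4, 0, 0] false [1, 1, 5, 1, 1, 2, 5, 3] 0 2 5 2]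

theorem valid : Valid ord [] relWords origins := by decide +kernel

/-- Codes of the generators. -/
def genC : Fin 3 → ℕ := ![0xbaab17243498acf68cf0316445b100, 0xbb4a37cecb3b28620528155ca8ca00, 0xb8d8d7a2cb11630239333a835a48c0]

/-- The generators as permutations of indices. -/
def genP : Fin 3 → Perm (Fin 24) := ![permOfList 24 [0, 8, 12, 11, 4, 18, 5, 6, 16, 7, 3, 13, 15, 22, 2, 19, 20, 1, 9, 14, 17, 21, 10, 23] [0, 17, 14, 10, 4, 6, 7, 9, 1, 18, 22, 3, 2, 11, 19, 12, 8, 20, 5, 15, 16, 21, 13, 23] (by decide +kernel),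
  permOfList 24 [0, 16, 18, 17, 10, 14, 21, 2, 8, 9, 1, 4, 6, 20, 12, 7, 11, 22, 19, 15, 3, 5, 13, 23] [0, 10, 7, 20, 11, 21, 12, 15, 8, 9, 4, 16, 14, 22, 5, 19, 1, 3, 2, 18, 13, 6, 17, 23] (by decide +kernel),
  permOfList 24 [0, 6, 18, 20, 21, 1, 10, 7, 19, 9, 14, 4, 16, 17, 5, 2, 11, 22, 8, 15, 13, 12, 3, 23] [0, 5, 15, 22, 11, 14, 1, 7, 18, 9, 6, 16, 21, 20, 10, 19, 12, 13, 2, 8, 3, 4, 17, 23] (by decide +kernel)]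

theorem genC_ok : ∀ i, inM24 (genC i) = true ∧ getW 5 (genC i) 23 = 23 ∧ getW 5 (genC i) 0 = 0 ∧
    ∀ j : Fin 24, getW 5 (genC i) j = (genP i j).val := by decide +kernel

theorem decode_genC (i : Fin 3) : decodeP 24 5 (genC i) = genP i :=
  Equiv.ext fun j => Fin.ext ((decodeP_apply (okCode_of_inM24 (genC_ok i).1) j).trans ((genC_ok i).2.2.2 j))

/-- The generators. -/
noncomputable def gen (i : Fin 3) : Spor.M22 :=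
  ⟨indexHom (genP i), by
    obtain ⟨h1, h2, h3, -⟩ := genC_ok i
    rw [← decode_genC i]
    refine ⟨⟨gperm_mem_M24 h1, idx_injective ?_⟩, idx_injective ?_⟩
    · show idx (gperm (genC i) none) = idx none
      rw [idx_gperm (okCode_of_inM24 h1)]
      exact h2
    · show idx (gperm (genC i) (some 0)) = idx (some 0)
      rw [idx_gperm (okCode_of_inM24 h1)]
      exact h3⟩

/-- `M22` acting on indices. -/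
noncomputable def ι : Spor.M22 →* Perm (Fin 24) := indexHom.symm.toMonoidHom.comp Spor.M22.subtype

theorem ι_injective : Function.Injective ι :=
  indexHom.symm.injective.comp Subtype.val_injective

theorem ι_gen (i : Fin 3) : ι (gen i) = genP i := indexHom.symm_apply_apply _

/-- The letters as permutations. -/
def ML : ℕ → Perm (Fin 24)
  | 0 => genP 0
  | 1 => (genP 0)⁻¹
  | 2 => genP 1
  | 3 => (genP 1)⁻¹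
  | 4 => genP 2
  | _ => (genP 2)⁻¹

theorem eval (l : List ℕ) (hl : ∀ g ∈ l, g < 2 * 3) :
    ι (FreeGroup.lift gen (word 3 l)) = (l.map ML).prod :=
  map_lift_word gen ι ML
    (forall_lt_two_mul fun i => by
      rw [lift_word_pos, lift_word_neg, map_inv, ι_gen]
      fin_cases i <;> exact ⟨rfl, rfl⟩) l hl

theorem eval_one (l : List ℕ) (hl : ∀ g ∈ l, g < 2 * 3) (h : (l.map ML).prod = 1) :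
    FreeGroup.lift gen (word 3 l) = 1 :=
  ι_injective ((eval l hl).trans (h.trans (map_one ι).symm))

theorem gen_pow : ∀ i, gen i ^ ord i = 1 := by
  intro i
  refine ι_injective ?_
  rw [map_pow, ι_gen, map_one]
  revert i; decide +kernel

theorem rels_check : ∀ l ∈ relWords, (∀ g ∈ l, g < 2 * 3) ∧ (l.map ML).prod = 1 := by decide +kernel

theorem gen_rels : ∀ r ∈ relSet 3 relWords, FreeGroup.lift gen r = 1 := by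
  intro r hr
  obtain ⟨l, hl, rfl⟩ := List.mem_map.1 hr
  exact eval_one l (rels_check l hl).1 (rels_check l hl).2

/-- The cover. -/
abbrev P : Type := PresentedGroup (relSet 3 relWords)

/-- The covering map. -/
noncomputable def σ : P →* Spor.M22 := PresentedGroup.toGroup gen_rels

theorem ισ_el (l : List ℕ) (hl : ∀ g ∈ l, g < 2 * 3) : ι (σ (el relWords l)) = (l.map ML).prod :=
  eval l hl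

/-- Words for the generators of the stabiliser chain. -/
def tgtWords : List (List ℕ) := [[0, 4, 1, 4, 0, 4, 1, 1, 3, 3], [2, 0, 0, 3, 1]]

theorem tgt_check : ∀ s ∈ Cert.m22_gens, inM24 s = true ∧ getW 5 s 23 = 23 ∧ getW 5 s 0 = 0 ∧
    ∃ l ∈ tgtWords, (∀ g ∈ l, g < 2 * 3) ∧ ∀ j : Fin 24, getW 5 s j = ((l.map ML).prod j).val := by
  decide +kernel

theorem σ_surjective : Function.Surjective σ := by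
  have hcard : Nat.card Spor.M22 = 443520 := card_spor_M22
  have hcl : Spor.M22 = Subgroup.closure (gperm '' {s | s ∈ Cert.m22_gens}) := by
    refine closure_eq_of_cert Cert.m22_check (fun s hs => ?_) (by rw [hcard, Cert.m22_order])
    obtain ⟨h1, h2, h3, -⟩ := tgt_check s hs
    refine ⟨⟨gperm_mem_M24 h1, idx_injective ?_⟩, idx_injective ?_⟩
    · show idx (gperm s none) = idx none
      rw [idx_gperm (okCode_of_inM24 h1)]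
      exact h2
    · show idx (gperm s (some 0)) = idx (some 0)
      rw [idx_gperm (okCode_of_inM24 h1)]
      exact h3
  intro x
  have hle : Spor.M22 ≤ σ.range.map Spor.M22.subtype := by
    conv_lhs => rw [hcl]
    rw [Subgroup.closure_le]
    rintro _ ⟨s, hs, rfl⟩
    obtain ⟨h1, -, -, l, -, hl, hj⟩ := tgt_check s hs
    refine ⟨σ (el relWords l), ⟨_, rfl⟩, ?_⟩
    have h : (l.map ML).prod = decodeP 24 5 s :=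
      Equiv.ext fun j => Fin.ext ((hj j).symm.trans (decodeP_apply (okCode_of_inM24 h1) j).symm)
    apply indexHom.symm.injective
    show ι (σ (el relWords l)) = indexHom.symm (indexHom (decodeP 24 5 s))
    rw [ισ_el l hl, h, indexHom.symm_apply_apply]
  obtain ⟨y, ⟨p, rfl⟩, hy⟩ := hle x.2
  exact ⟨p, Subtype.ext hy⟩

/-- The first two of three names. -/
def inc : Fin 2 → Fin 3 := ![0, 1]

theorem inc_check : ∀ r ∈ L211x264.relWords.map (word 2), FreeGroup.map inc r ∈ relWords.map (word 3) := by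
  decide +kernel

theorem hHL : ∀ l, l ∈ M22x4032.subWords ↔ ∃ i : Fin 2, l = [2 * (inc i).val] := by
  intro l
  simp [M22x4032.subWords, Fin.exists_fin_two, inc]

theorem card_Q_le : Nat.card (PresentedGroup (relSet 2 L211x264.relWords)) ≤ 5 * 264 ∧
    Finite (PresentedGroup (relSet 2 L211x264.relWords)) :=
  card_le_of_cyclic (g := 0) (by norm_num) (by norm_num) (by decide +kernel) L211x264.enum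

theorem card_P_le : Nat.card P ≤ 5 * 264 * 4032 ∧ Finite P :=
  card_le_of_range inc inc_check _ hHL M22x4032.enum card_Q_le.1 card_Q_le.2

instance finite_P : Finite P := card_P_le.2

theorem card_ker_le : Nat.card σ.ker ≤ 12 := by
  have h := Subgroup.card_mul_index σ.ker
  rw [Subgroup.index_ker, MonoidHom.range_eq_top.2 σ_surjective, Subgroup.card_top, card_spor_M22] at h
  have h2 := card_P_le.1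
  rw [← h] at h2
  exact Nat.le_of_mul_le_mul_right (h2.trans (by decide)) (by decide)

/-- Words for the elements of the image of the subgroup. -/
def subEls : List (List ℕ) := [
  [],
  [0],
  [1],
  [2],
  [3],
  [0, 0],
  [0, 2],
  [0, 3],
  [1, 1],
  [1, 2],
  [1, 3],
  [2, 0],
  [2, 1],
  [2, 2],
  [3, 0],
  [3, 1],
  [3, 3],
  [0, 0, 2],
  [0, 0, 3],
  [0, 2, 0],
  [0, 2, 1],
  [0, 2, 2],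
  [0, 3, 0],
  [0, 3, 1],
  [0, 3, 3],
  [1, 1, 2],
  [1, 1, 3],
  [1, 2, 0],
  [1, 2, 1],
  [1, 2, 2],
  [1, 3, 0],
  [1, 3, 1],
  [1, 3, 3],
  [2, 0, 0],
  [2, 0, 2],
  [2, 0, 3],
  [2, 1, 1],
  [2, 1, 2],
  [2, 1, 3],
  [2, 2, 0],
  [2, 2, 1],
  [3, 0, 0],
  [3, 0, 2],
  [3, 0, 3],
  [3, 1, 1],
  [3, 1, 2],
  [3, 1, 3],
  [3, 3, 0],
  [3, 3, 1],
  [0, 0, 2, 0],
  [0, 0, 2, 1],
  [0, 0, 2, 2],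
  [0, 0, 3, 0],
  [0, 0, 3, 1],
  [0, 0, 3, 3],
  [0, 2, 0, 0],
  [0, 2, 0, 2],
  [0, 2, 0, 3],
  [0, 2, 1, 1],
  [0, 2, 1, 2],
  [0, 2, 1, 3],
  [0, 2, 2, 0],
  [0, 2, 2, 1],
  [0, 3, 0, 0],
  [0, 3, 0, 2],
  [0, 3, 0, 3],
  [0, 3, 1, 1],
  [0, 3, 1, 2],
  [0, 3, 1, 3],
  [0, 3, 3, 0],
  [0, 3, 3, 1],
  [1, 1, 2, 0],
  [1, 1, 2, 1],
  [1, 1, 2, 2],
  [1, 1, 3, 0],
  [1, 1, 3, 1],
  [1, 1, 3, 3],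
  [1, 2, 0, 0],
  [1, 2, 0, 2],
  [1, 2, 0, 3],
  [1, 2, 1, 1],
  [1, 2, 1, 2],
  [1, 2, 1, 3],
  [1, 2, 2, 0],
  [1, 2, 2, 1],
  [1, 3, 0, 0],
  [1, 3, 0, 2],
  [1, 3, 0, 3],
  [1, 3, 1, 1],
  [1, 3, 1, 2],
  [1, 3, 1, 3],
  [1, 3, 3, 0],
  [2, 0, 0, 2],
  [2, 0, 0, 3],
  [2, 0, 2, 0],
  [2, 0, 2, 2],
  [2, 0, 3, 1],
  [2, 0, 3, 3],
  [2, 1, 1, 2],
  [2, 1, 1, 3],
  [2, 1, 2, 1],
  [2, 1, 2, 2],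
  [2, 1, 3, 0],
  [2, 1, 3, 3],
  [2, 2, 0, 2],
  [2, 2, 0, 3],
  [2, 2, 1, 1],
  [2, 2, 1, 2],
  [2, 2, 1, 3],
  [3, 0, 0, 2],
  [3, 0, 0, 3],
  [3, 0, 2, 1],
  [3, 0, 2, 2],
  [3, 0, 3, 0],
  [3, 0, 3, 3],
  [3, 1, 1, 2],
  [3, 1, 2, 0],
  [3, 1, 2, 2],
  [3, 1, 3, 1],
  [3, 1, 3, 3],
  [3, 3, 0, 0],
  [3, 3, 0, 2],
  [3, 3, 0, 3],
  [3, 3, 1, 2],
  [3, 3, 1, 3],
  [0, 0, 2, 0, 0],
  [0, 0, 2, 0, 2],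
  [0, 0, 2, 0, 3],
  [0, 0, 2, 1, 1],
  [0, 0, 2, 1, 2],
  [0, 0, 2, 1, 3],
  [0, 0, 3, 0, 0],
  [0, 0, 3, 0, 2],
  [0, 0, 3, 0, 3],
  [0, 0, 3, 1, 1],
  [0, 0, 3, 1, 2],
  [0, 0, 3, 1, 3],
  [0, 0, 3, 3, 0],
  [0, 2, 0, 0, 2],
  [0, 2, 0, 0, 3],
  [0, 2, 0, 2, 0],
  [0, 2, 0, 2, 2],
  [0, 2, 0, 3, 1],
  [0, 2, 0, 3, 3],
  [0, 2, 1, 1, 2],
  [0, 2, 1, 1, 3],
  [0, 2, 1, 2, 1],
  [0, 2, 1, 2, 2],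
  [0, 2, 1, 3, 0],
  [0, 2, 1, 3, 3],
  [0, 2, 2, 0, 2],
  [0, 2, 2, 0, 3],
  [0, 2, 2, 1, 2],
  [0, 2, 2, 1, 3],
  [0, 3, 0, 0, 2],
  [0, 3, 0, 0, 3],
  [0, 3, 0, 2, 1],
  [0, 3, 0, 2, 2],
  [0, 3, 0, 3, 0],
  [0, 3, 0, 3, 3],
  [0, 3, 1, 1, 2],
  [0, 3, 1, 2, 0],
  [0, 3, 1, 2, 2],
  [0, 3, 1, 3, 1],
  [0, 3, 1, 3, 3],
  [0, 3, 3, 0, 0],
  [0, 3, 3, 0, 2],
  [0, 3, 3, 0, 3],
  [0, 3, 3, 1, 2],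
  [0, 3, 3, 1, 3],
  [1, 1, 2, 0, 0],
  [1, 1, 2, 0, 2],
  [1, 1, 2, 0, 3],
  [1, 1, 2, 1, 1],
  [1, 1, 2, 1, 2],
  [1, 1, 2, 1, 3],
  [1, 1, 3, 0, 0],
  [1, 1, 3, 0, 2],
  [1, 1, 3, 0, 3],
  [1, 1, 3, 1, 1],
  [1, 1, 3, 1, 2],
  [1, 1, 3, 1, 3],
  [1, 2, 0, 0, 2],
  [1, 2, 0, 0, 3],
  [1, 2, 0, 2, 0],
  [1, 2, 0, 2, 2],
  [1, 2, 0, 3, 1],
  [1, 2, 0, 3, 3],
  [1, 2, 1, 1, 2],
  [1, 2, 1, 2, 1],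
  [1, 2, 1, 2, 2],
  [1, 2, 1, 3, 0],
  [1, 2, 1, 3, 3],
  [1, 2, 2, 0, 2],
  [1, 2, 2, 0, 3],
  [1, 2, 2, 1, 2],
  [1, 2, 2, 1, 3],
  [1, 3, 0, 0, 2],
  [1, 3, 0, 0, 3],
  [1, 3, 0, 2, 1],
  [1, 3, 0, 2, 2],
  [1, 3, 0, 3, 0],
  [1, 3, 0, 3, 3],
  [1, 3, 1, 1, 2],
  [1, 3, 1, 2, 0],
  [1, 3, 1, 2, 2],
  [1, 3, 1, 3, 1],
  [1, 3, 1, 3, 3],
  [1, 3, 3, 0, 2],
  [2, 0, 0, 2, 0],
  [2, 0, 0, 2, 1],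
  [2, 0, 0, 3, 0],
  [2, 0, 0, 3, 1],
  [2, 0, 2, 0, 0],
  [2, 0, 2, 0, 3],
  [2, 0, 2, 2, 0],
  [2, 0, 2, 2, 1],
  [2, 0, 3, 1, 1],
  [2, 0, 3, 1, 2],
  [2, 0, 3, 1, 3],
  [2, 0, 3, 3, 0],
  [2, 0, 3, 3, 1],
  [2, 1, 1, 2, 0],
  [2, 1, 1, 2, 1],
  [2, 1, 1, 2, 2],
  [2, 1, 1, 3, 0],
  [2, 1, 1, 3, 1],
  [2, 1, 2, 1, 1],
  [2, 1, 2, 1, 2],
  [2, 1, 2, 1, 3],
  [2, 1, 2, 2, 0],
  [2, 1, 2, 2, 1],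
  [2, 1, 3, 0, 0],
  [2, 1, 3, 0, 2],
  [2, 1, 3, 0, 3],
  [2, 1, 3, 3, 0],
  [2, 2, 0, 2, 0],
  [2, 2, 0, 2, 2],
  [2, 2, 0, 3, 1],
  [2, 2, 0, 3, 3],
  [2, 2, 1, 1, 2],
  [2, 2, 1, 2, 1],
  [2, 2, 1, 3, 0],
  [2, 2, 1, 3, 3],
  [3, 0, 0, 2, 0],
  [3, 0, 0, 2, 1],
  [3, 0, 0, 3, 0],
  [3, 0, 0, 3, 1],
  [3, 0, 2, 1, 1],
  [3, 0, 2, 1, 2],
  [3, 0, 2, 1, 3],
  [3, 0, 2, 2, 0],
  [3, 0, 2, 2, 1],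
  [3, 0, 3, 0, 0],
  [3, 0, 3, 0, 2],
  [3, 0, 3, 0, 3],
  [3, 0, 3, 3, 0],
  [3, 1, 1, 2, 0],
  [3, 1, 2, 0, 0],
  [3, 1, 2, 0, 2],
  [3, 1, 2, 0, 3],
  [3, 1, 2, 2, 0],
  [3, 1, 2, 2, 1],
  [3, 1, 3, 1, 1],
  [3, 1, 3, 1, 2],
  [3, 1, 3, 3, 0],
  [3, 3, 0, 2, 1],
  [3, 3, 0, 2, 2],
  [3, 3, 0, 3, 0],
  [3, 3, 1, 2, 0],
  [3, 3, 1, 2, 2],
  [3, 3, 1, 3, 1],
  [3, 3, 1, 3, 3],
  [0, 0, 2, 0, 0, 2],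
  [0, 0, 2, 0, 0, 3],
  [0, 0, 2, 0, 2, 0],
  [0, 0, 2, 0, 2, 2],
  [0, 0, 2, 0, 3, 1],
  [0, 0, 2, 0, 3, 3],
  [0, 0, 2, 1, 1, 2],
  [0, 0, 2, 1, 2, 1],
  [0, 0, 2, 1, 2, 2],
  [0, 0, 2, 1, 3, 0],
  [0, 0, 2, 1, 3, 3],
  [0, 0, 3, 0, 2, 1],
  [0, 0, 3, 0, 2, 2],
  [0, 0, 3, 0, 3, 0],
  [0, 0, 3, 0, 3, 3],
  [0, 0, 3, 1, 1, 2],
  [0, 0, 3, 1, 2, 0],
  [0, 0, 3, 1, 2, 2],
  [0, 0, 3, 1, 3, 1],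
  [0, 0, 3, 1, 3, 3],
  [0, 0, 3, 3, 0, 2],
  [0, 2, 0, 0, 2, 0],
  [0, 2, 0, 0, 2, 1],
  [0, 2, 0, 0, 3, 0],
  [0, 2, 0, 0, 3, 1],
  [0, 2, 0, 2, 0, 0],
  [0, 2, 0, 2, 0, 3],
  [0, 2, 0, 2, 2, 0],
  [0, 2, 0, 2, 2, 1],
  [0, 2, 0, 3, 1, 2],
  [0, 2, 0, 3, 1, 3],
  [0, 2, 0, 3, 3, 0],
  [0, 2, 0, 3, 3, 1],
  [0, 2, 1, 1, 2, 0],
  [0, 2, 1, 1, 2, 1],
  [0, 2, 1, 1, 2, 2],
  [0, 2, 1, 1, 3, 0],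
  [0, 2, 1, 1, 3, 1],
  [0, 2, 1, 2, 1, 2],
  [0, 2, 1, 2, 1, 3],
  [0, 2, 1, 2, 2, 0],
  [0, 2, 1, 2, 2, 1],
  [0, 2, 1, 3, 0, 0],
  [0, 2, 1, 3, 0, 2],
  [0, 2, 1, 3, 0, 3],
  [0, 2, 1, 3, 3, 0],
  [0, 2, 2, 0, 2, 0],
  [0, 2, 2, 0, 2, 2],
  [0, 2, 2, 0, 3, 1],
  [0, 2, 2, 0, 3, 3],
  [0, 2, 2, 1, 2, 1],
  [0, 2, 2, 1, 3, 0],
  [0, 3, 0, 0, 2, 0],
  [0, 3, 0, 0, 2, 1],
  [0, 3, 0, 0, 3, 0],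
  [0, 3, 0, 0, 3, 1],
  [0, 3, 0, 2, 1, 2],
  [0, 3, 0, 2, 1, 3],
  [0, 3, 0, 2, 2, 0],
  [0, 3, 0, 2, 2, 1],
  [0, 3, 0, 3, 0, 0],
  [0, 3, 0, 3, 0, 2],
  [0, 3, 0, 3, 0, 3],
  [0, 3, 0, 3, 3, 0],
  [0, 3, 1, 1, 2, 0],
  [0, 3, 1, 2, 0, 0],
  [0, 3, 1, 2, 0, 2],
  [0, 3, 1, 2, 0, 3],
  [0, 3, 1, 2, 2, 0],
  [0, 3, 1, 2, 2, 1],
  [0, 3, 1, 3, 1, 2],
  [0, 3, 1, 3, 3, 0],
  [0, 3, 3, 0, 2, 1],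
  [0, 3, 3, 0, 2, 2],
  [0, 3, 3, 0, 3, 0],
  [0, 3, 3, 1, 2, 0],
  [0, 3, 3, 1, 2, 2],
  [0, 3, 3, 1, 3, 1],
  [0, 3, 3, 1, 3, 3],
  [1, 1, 2, 0, 0, 2],
  [1, 1, 2, 0, 0, 3],
  [1, 1, 2, 0, 2, 0],
  [1, 1, 2, 0, 2, 2],
  [1, 1, 2, 0, 3, 1],
  [1, 1, 2, 0, 3, 3],
  [1, 1, 2, 1, 2, 1],
  [1, 1, 2, 1, 2, 2],
  [1, 1, 2, 1, 3, 0],
  [1, 1, 2, 1, 3, 3],
  [1, 1, 3, 0, 2, 1],
  [1, 1, 3, 0, 2, 2],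
  [1, 1, 3, 0, 3, 0],
  [1, 1, 3, 0, 3, 3],
  [1, 1, 3, 1, 1, 2],
  [1, 1, 3, 1, 2, 0],
  [1, 1, 3, 1, 2, 2],
  [1, 1, 3, 1, 3, 1],
  [1, 1, 3, 1, 3, 3],
  [1, 2, 0, 0, 2, 0],
  [1, 2, 0, 0, 2, 1],
  [1, 2, 0, 0, 3, 0],
  [1, 2, 0, 0, 3, 1],
  [1, 2, 0, 2, 0, 3],
  [1, 2, 0, 2, 2, 0],
  [1, 2, 0, 2, 2, 1],
  [1, 2, 0, 3, 1, 1],
  [1, 2, 0, 3, 1, 2],
  [1, 2, 0, 3, 1, 3],
  [1, 2, 0, 3, 3, 0],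
  [1, 2, 1, 1, 2, 0],
  [1, 2, 1, 1, 2, 1],
  [1, 2, 1, 2, 1, 1],
  [1, 2, 1, 2, 1, 2],
  [1, 2, 1, 2, 1, 3],
  [1, 2, 1, 2, 2, 0],
  [1, 2, 1, 2, 2, 1],
  [1, 2, 1, 3, 0, 2],
  [1, 2, 1, 3, 0, 3],
  [1, 2, 1, 3, 3, 0],
  [1, 2, 2, 0, 2, 0],
  [1, 2, 2, 0, 2, 2],
  [1, 2, 2, 0, 3, 1],
  [1, 2, 2, 0, 3, 3],
  [1, 2, 2, 1, 2, 1],
  [1, 2, 2, 1, 3, 0],
  [1, 3, 0, 0, 2, 0],
  [1, 3, 0, 0, 2, 1],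
  [1, 3, 0, 0, 3, 0],
  [1, 3, 0, 0, 3, 1],
  [1, 3, 0, 2, 1, 1],
  [1, 3, 0, 2, 1, 3],
  [1, 3, 0, 2, 2, 0],
  [1, 3, 0, 2, 2, 1],
  [1, 3, 0, 3, 0, 3],
  [1, 3, 0, 3, 3, 0],
  [1, 3, 1, 1, 2, 0],
  [1, 3, 1, 2, 0, 3],
  [1, 3, 1, 2, 2, 0],
  [1, 3, 1, 2, 2, 1],
  [1, 3, 1, 3, 1, 1],
  [1, 3, 1, 3, 1, 2],
  [1, 3, 1, 3, 3, 0],
  [2, 0, 0, 2, 0, 0],
  [2, 0, 0, 2, 0, 2],
  [2, 0, 0, 2, 1, 1],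
  [2, 0, 0, 2, 1, 3],
  [2, 0, 0, 3, 0, 2],
  [2, 0, 0, 3, 0, 3],
  [2, 0, 0, 3, 1, 2],
  [2, 0, 2, 0, 0, 2],
  [2, 0, 2, 0, 3, 1],
  [2, 0, 2, 0, 3, 3],
  [2, 0, 2, 2, 0, 2],
  [2, 0, 2, 2, 1, 2],
  [2, 0, 3, 1, 2, 0],
  [2, 0, 3, 1, 2, 2],
  [2, 0, 3, 1, 3, 1],
  [2, 0, 3, 3, 0, 0],
  [2, 0, 3, 3, 0, 2],
  [2, 0, 3, 3, 1, 2],
  [2, 1, 1, 2, 0, 0],
  [2, 1, 1, 2, 0, 3],
  [2, 1, 1, 2, 1, 2],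
  [2, 1, 1, 3, 0, 0],
  [2, 1, 1, 3, 0, 3],
  [2, 1, 1, 3, 1, 1],
  [2, 1, 1, 3, 1, 2],
  [2, 1, 2, 1, 1, 2],
  [2, 1, 2, 1, 2, 2],
  [2, 1, 2, 1, 3, 0],
  [2, 1, 2, 2, 0, 2],
  [2, 1, 2, 2, 0, 3],
  [2, 1, 2, 2, 1, 2],
  [2, 1, 3, 0, 0, 2],
  [2, 1, 3, 0, 0, 3],
  [2, 1, 3, 0, 2, 1],
  [2, 1, 3, 0, 3, 0],
  [2, 1, 3, 0, 3, 3],
  [2, 1, 3, 3, 0, 2],
  [2, 2, 0, 2, 0, 0],
  [2, 2, 0, 2, 2, 0],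
  [2, 2, 0, 2, 2, 1],
  [2, 2, 0, 3, 1, 1],
  [2, 2, 0, 3, 3, 0],
  [2, 2, 1, 1, 2, 0],
  [2, 2, 1, 2, 1, 1],
  [2, 2, 1, 2, 1, 2],
  [2, 2, 1, 3, 0, 2],
  [2, 2, 1, 3, 3, 0],
  [3, 0, 0, 2, 0, 0],
  [3, 0, 0, 2, 0, 3],
  [3, 0, 0, 2, 1, 1],
  [3, 0, 0, 2, 1, 2],
  [3, 0, 0, 3, 0, 3],
  [3, 0, 0, 3, 1, 2],
  [3, 0, 2, 1, 1, 2],
  [3, 0, 2, 1, 2, 1],
  [3, 0, 2, 1, 2, 2],
  [3, 0, 2, 1, 3, 0],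
  [3, 0, 2, 2, 0, 3],
  [3, 0, 2, 2, 1, 3],
  [3, 0, 3, 0, 0, 2],
  [3, 0, 3, 0, 0, 3],
  [3, 0, 3, 0, 2, 1],
  [3, 0, 3, 0, 3, 3],
  [3, 0, 3, 3, 0, 3],
  [3, 1, 2, 0, 0, 2],
  [3, 1, 2, 0, 2, 0],
  [3, 1, 2, 0, 3, 1],
  [3, 1, 2, 0, 3, 3],
  [3, 1, 2, 2, 0, 3],
  [3, 1, 2, 2, 1, 3],
  [3, 1, 3, 1, 2, 0],
  [3, 1, 3, 1, 2, 2],
  [3, 3, 0, 2, 1, 3],
  [3, 3, 0, 2, 2, 0],
  [3, 3, 0, 2, 2, 1],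
  [3, 3, 0, 3, 0, 0],
  [3, 3, 0, 3, 0, 3],
  [3, 3, 1, 2, 0, 0],
  [3, 3, 1, 3, 1, 1],
  [3, 3, 1, 3, 3, 0],
  [0, 0, 2, 0, 0, 2, 0],
  [0, 0, 2, 0, 0, 2, 1],
  [0, 0, 2, 0, 0, 3, 0],
  [0, 0, 2, 0, 2, 0, 0],
  [0, 0, 2, 0, 2, 2, 0],
  [0, 0, 2, 0, 2, 2, 1],
  [0, 0, 2, 0, 3, 3, 0],
  [0, 0, 2, 1, 1, 2, 0],
  [0, 0, 2, 1, 1, 2, 1],
  [0, 0, 2, 1, 2, 2, 0],
  [0, 0, 2, 1, 2, 2, 1],
  [0, 0, 2, 1, 3, 0, 2],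
  [0, 0, 2, 1, 3, 3, 0],
  [0, 0, 3, 0, 2, 1, 3],
  [0, 0, 3, 0, 2, 2, 0],
  [0, 0, 3, 0, 2, 2, 1],
  [0, 0, 3, 0, 3, 0, 0],
  [0, 0, 3, 0, 3, 0, 3],
  [0, 0, 3, 0, 3, 3, 0],
  [0, 0, 3, 1, 2, 0, 3],
  [0, 0, 3, 1, 3, 1, 2],
  [0, 0, 3, 1, 3, 3, 0],
  [0, 2, 0, 0, 2, 0, 0],
  [0, 2, 0, 0, 2, 1, 1],
  [0, 2, 0, 0, 2, 1, 3],
  [0, 2, 0, 0, 3, 0, 2],
  [0, 2, 0, 0, 3, 0, 3],
  [0, 2, 0, 3, 1, 2, 0],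
  [0, 2, 0, 3, 1, 3, 1],
  [0, 2, 0, 3, 3, 0, 0],
  [0, 2, 0, 3, 3, 0, 2],
  [0, 2, 0, 3, 3, 1, 2],
  [0, 2, 1, 1, 2, 0, 0],
  [0, 2, 1, 1, 2, 0, 3],
  [0, 2, 1, 1, 2, 1, 2],
  [0, 2, 1, 1, 3, 0, 3],
  [0, 2, 1, 1, 3, 1, 2],
  [0, 2, 1, 2, 1, 3, 0],
  [0, 2, 1, 2, 2, 0, 2],
  [0, 2, 1, 2, 2, 0, 3],
  [0, 2, 1, 2, 2, 1, 2],
  [0, 2, 1, 3, 0, 2, 1],
  [0, 2, 1, 3, 0, 3, 0],
  [0, 2, 1, 3, 0, 3, 3],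
  [0, 2, 2, 0, 2, 0, 0],
  [0, 2, 2, 0, 2, 2, 1],
  [0, 2, 2, 0, 3, 1, 1],
  [0, 2, 2, 0, 3, 3, 0],
  [0, 2, 2, 1, 2, 1, 1],
  [0, 2, 2, 1, 2, 1, 2],
  [0, 3, 0, 0, 2, 0, 0],
  [0, 3, 0, 0, 2, 0, 3],
  [0, 3, 0, 0, 2, 1, 1],
  [0, 3, 0, 0, 2, 1, 2],
  [0, 3, 0, 0, 3, 0, 3],
  [0, 3, 0, 2, 1, 2, 1],
  [0, 3, 0, 2, 1, 3, 0],
  [0, 3, 0, 2, 2, 0, 3],
  [0, 3, 0, 2, 2, 1, 3],
  [0, 3, 0, 3, 0, 0, 2],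
  [0, 3, 0, 3, 0, 0, 3],
  [0, 3, 0, 3, 0, 2, 1],
  [0, 3, 0, 3, 0, 3, 3],
  [0, 3, 0, 3, 3, 0, 3],
  [0, 3, 1, 2, 0, 2, 0],
  [0, 3, 1, 2, 0, 3, 1],
  [0, 3, 1, 2, 0, 3, 3],
  [0, 3, 1, 2, 2, 1, 3],
  [0, 3, 1, 3, 1, 2, 0],
  [0, 3, 1, 3, 1, 2, 2],
  [0, 3, 3, 0, 2, 2, 0],
  [0, 3, 3, 0, 2, 2, 1],
  [0, 3, 3, 0, 3, 0, 0],
  [0, 3, 3, 0, 3, 0, 3],
  [0, 3, 3, 1, 2, 0, 0],
  [0, 3, 3, 1, 3, 1, 1],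
  [1, 1, 2, 0, 0, 2, 0],
  [1, 1, 2, 0, 0, 2, 1],
  [1, 1, 2, 0, 0, 3, 0],
  [1, 1, 2, 0, 2, 2, 0],
  [1, 1, 2, 0, 2, 2, 1],
  [1, 1, 2, 1, 2, 2, 0],
  [1, 1, 2, 1, 2, 2, 1],
  [1, 1, 2, 1, 3, 0, 2],
  [1, 1, 2, 1, 3, 3, 0],
  [1, 1, 3, 0, 2, 1, 3],
  [1, 1, 3, 0, 2, 2, 0],
  [1, 1, 3, 0, 2, 2, 1],
  [1, 1, 3, 0, 3, 3, 0],
  [1, 1, 3, 1, 3, 3, 0],
  [1, 2, 0, 0, 2, 0, 0],
  [1, 2, 0, 0, 2, 1, 1],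
  [1, 2, 0, 0, 3, 0, 3],
  [1, 2, 0, 2, 0, 3, 3],
  [1, 2, 0, 2, 2, 1, 2],
  [1, 2, 0, 3, 1, 2, 0],
  [1, 2, 0, 3, 1, 3, 1],
  [1, 2, 0, 3, 3, 0, 2],
  [1, 2, 1, 1, 2, 1, 2],
  [1, 2, 1, 2, 1, 1, 2],
  [1, 2, 1, 2, 1, 3, 0],
  [1, 2, 1, 2, 2, 0, 2],
  [1, 2, 1, 2, 2, 0, 3],
  [1, 2, 1, 2, 2, 1, 2],
  [1, 2, 2, 0, 2, 0, 0],
  [1, 2, 2, 0, 3, 1, 1],
  [1, 2, 2, 1, 2, 1, 2],
  [1, 3, 0, 0, 2, 0, 3],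
  [1, 3, 0, 0, 3, 0, 3],
  [1, 3, 0, 2, 1, 3, 0],
  [1, 3, 0, 3, 3, 0, 3],
  [1, 3, 1, 2, 0, 3, 1],
  [1, 3, 1, 2, 2, 1, 3],
  [2, 0, 0, 2, 0, 2, 2],
  [2, 0, 0, 2, 1, 3, 3],
  [2, 0, 0, 3, 0, 3, 3],
  [2, 0, 2, 0, 3, 1, 2],
  [2, 0, 2, 2, 0, 2, 2],
  [2, 0, 2, 2, 1, 2, 1],
  [2, 0, 3, 1, 2, 0, 0],
  [2, 1, 1, 2, 0, 0, 2],
  [2, 1, 1, 2, 1, 2, 1],
  [2, 1, 1, 3, 1, 2, 2],
  [2, 1, 2, 1, 1, 2, 0],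
  [2, 1, 2, 1, 1, 2, 1],
  [2, 1, 2, 1, 2, 2, 1],
  [2, 1, 2, 2, 0, 2, 2],
  [2, 1, 2, 2, 1, 2, 1],
  [2, 2, 0, 2, 0, 0, 2],
  [2, 2, 0, 2, 2, 0, 2],
  [2, 2, 0, 2, 2, 1, 2],
  [2, 2, 1, 2, 1, 2, 2],
  [3, 0, 0, 2, 0, 3, 3],
  [3, 0, 0, 3, 0, 3, 0],
  [3, 0, 2, 2, 0, 3, 3],
  [3, 0, 3, 0, 0, 2, 0],
  [3, 0, 3, 0, 0, 3, 0],
  [3, 0, 3, 0, 3, 3, 0],
  [3, 0, 3, 3, 0, 3, 0],
  [3, 1, 2, 0, 3, 1, 1],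
  [3, 1, 3, 1, 2, 0, 3],
  [3, 3, 0, 2, 2, 0, 3],
  [3, 3, 0, 3, 0, 0, 2],
  [3, 3, 1, 2, 0, 0, 2],
  [0, 0, 2, 0, 0, 2, 0, 0],
  [0, 0, 2, 0, 0, 2, 1, 1],
  [0, 0, 2, 0, 0, 3, 0, 3],
  [0, 0, 2, 0, 3, 3, 0, 2],
  [0, 0, 2, 1, 1, 2, 1, 2],
  [0, 0, 2, 1, 2, 2, 1, 2],
  [0, 0, 3, 0, 3, 3, 0, 3],
  [0, 0, 3, 1, 3, 1, 2, 2],
  [0, 2, 0, 0, 3, 0, 3, 3],
  [0, 2, 2, 0, 2, 0, 0, 2],
  [0, 3, 1, 3, 1, 2, 0, 3],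
  [0, 3, 3, 0, 2, 2, 0, 3],
  [1, 1, 2, 0, 0, 2, 0, 0],
  [1, 1, 2, 0, 0, 2, 1, 1],
  [1, 1, 2, 1, 2, 2, 1, 2],
  [1, 1, 3, 0, 3, 3, 0, 3],
  [2, 0, 0, 2, 0, 2, 2, 0],
  [2, 0, 2, 2, 0, 2, 2, 1],
  [2, 0, 2, 2, 1, 2, 1, 1],
  [2, 1, 1, 2, 0, 0, 2, 1],
  [2, 2, 0, 2, 2, 1, 2, 1]]

theorem subEls_check : (∀ l ∈ subEls, ∀ g ∈ l, g < 2 * 2) ∧
    (subEls.map fun l => packW 5 (fun i => ((l.map ML).prod (Fin.ofNat 24 i)).val) 24).Nodup := by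
  decide +kernel

/-- A kernel element inside the subgroup of the table. -/
def k₀ : List ℕ := [1, 3, 3, 1, 1, 3, 3, 1]

theorem k₀_check : (∀ g ∈ k₀, g < 2 * 2) ∧ (k₀.map ML).prod = 1 := by decide +kernel

/-- A word generating the kernel. -/
def z : List ℕ := [1, 3, 5, 0, 2, 2, 0, 4, 2, 0, 5, 0, 4, 1]

/-- Words for the elements of the kernel. -/
def zw (a : Multiplicative (ZMod 12)) : List ℕ :=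
  (List.replicate (Multiplicative.toAdd a).val z).flatten

theorem zw_check : ∀ a : Multiplicative (ZMod 12), (∀ g ∈ zw a, g < 2 * 3) ∧ ((zw a).map ML).prod = 1 := by
  decide +kernel

/-- What an element looks like in the two tables. -/
noncomputable def view (l : List ℕ) : ℕ × ℕ :=
  (scan (2 * 3) M22x4032.table l 0, scan (2 * 3) M22x4928.table l 0)

theorem scan_check :
    (∀ a b : Multiplicative (ZMod 12), view (zw a) = view (zw b) → a = b) ∧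
    (∀ a b : Multiplicative (ZMod 12), view (zw a ++ zw b) = view (zw (a * b))) ∧
    (∀ a : Multiplicative (ZMod 12), ∀ g < 2 * 3,
      view (zw a ++ [g] ++ invWord (zw a) ++ [flip g]) = view []) ∧
    scan (2 * 3) M22x4928.table k₀ 0 ≠ scan (2 * 3) M22x4928.table [] 0 := by
  decide +kernel

theorem map_incLetter : ∀ {l : List ℕ}, (∀ g ∈ l, g < 2 * 2) → l.map (incLetter inc) = l := by
  intro l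
  induction l with
  | nil => intro _; rfl
  | cons g l ih =>
    intro h
    have h' : ∀ g < 2 * 2, incLetter inc g = g := by decide
    rw [List.map_cons, h' g (h g List.mem_cons_self), ih fun x hx => h x (List.mem_cons_of_mem _ hx)]

theorem ker_cyclic :
    Nonempty (σ.ker ≃* Multiplicative (ZMod 12)) ∧ σ.ker ≤ Subgroup.center P := by
  obtain ⟨a₁, h₁⟩ := exists_act_of_enum M22x4032.enum
  obtain ⟨a₂⟩ := M22x4928.act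
  let o : Obs 3 relWords (ℕ × ℕ) := a₁.obs.prod a₂.obs
  have ho : o.onWord = view := rfl
  haveI := card_Q_le.2
  have hrange : 660 ≤ Nat.card (σ.comp (incHom inc inc_check)).range := by
    let h := σ.comp (incHom inc inc_check)
    let v : Spor.M22 → ℕ := fun x => packW 5 (fun i => (ι x (Fin.ofNat 24 i)).val) 24
    haveI : Fintype h.range := Fintype.ofFinite _
    have hsub : (subEls.map fun l => packW 5 (fun i => ((l.map ML).prod (Fin.ofNat 24 i)).val) 24).toFinset ⊆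
        (Finset.univ : Finset h.range).image fun x => v x.1 := by
      intro y hy
      obtain ⟨l, hl, rfl⟩ := List.mem_map.1 (List.mem_toFinset.1 hy)
      refine Finset.mem_image.2 ⟨⟨h (el L211x264.relWords l), _, rfl⟩, Finset.mem_univ _, ?_⟩
      simp only [v, h, MonoidHom.comp_apply, incHom_el, map_incLetter (subEls_check.1 l hl),
        ισ_el l fun g hg => lt_trans (subEls_check.1 l hl g hg) (by norm_num)]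
    have := (Finset.card_le_card hsub).trans Finset.card_image_le
    rw [List.toFinset_card_of_nodup subEls_check.2, List.length_map, Finset.card_univ,
      ← Nat.card_eq_fintype_card] at this
    exact (show subEls.length = 660 by decide +kernel) ▸ this
  have hk3 : ∀ g ∈ k₀, g < 2 * 3 := fun g hg => lt_trans (k₀_check.1 g hg) (by norm_num)
  have hne : el relWords k₀ ≠ (1 : P) := by
    intro e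
    have h0 := a₂.obs.onWord_eq k₀ hk3
    rw [e, ← el_nil (n := 3) (R := relWords), a₂.obs.onWord_eq [] (by simp)] at h0
    exact scan_check.2.2.2 h0.symm
  have hsep : ∀ x ∈ σ.ker, o.val x = o.val 1 → x = 1 := by
    intro x hx hval
    have hxr : x ∈ (incHom inc inc_check).range :=
      subOf_eq_range inc inc_check _ hHL ▸ h₁ x (congrArg Prod.fst hval)
    have hkr : el relWords k₀ ∈ (incHom inc inc_check).range :=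
      ⟨el L211x264.relWords k₀, by rw [incHom_el, map_incLetter k₀_check.1]⟩
    rcases eq_one_or_eq_of_mem_range (incHom inc inc_check) σ (k := 660) (by norm_num)
      (card_Q_le.1.trans (by norm_num)) hrange hkr (eval_one k₀ hk3 k₀_check.2) hne hxr hx with rfl | rfl
    · rfl
    · rw [o.onWord_eq k₀ hk3, ← el_nil (n := 3) (R := relWords), o.onWord_eq [] (by simp), ho] at hval
      exact absurd (congrArg Prod.snd hval) scan_check.2.2.2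
  refine ker_spec σ o hsep (by simpa [Nat.card_eq_fintype_card] using card_ker_le) zw
    (fun a => (zw_check a).1) (fun a => eval_one _ (zw_check a).1 (zw_check a).2) ?_ ?_ ?_ <;>
    rw [ho]
  · exact scan_check.1
  · exact scan_check.2.1
  · exact scan_check.2.2.1

theorem gen_pow_P : ∀ i, (PresentedGroup.of i : P) ^ ord i = 1 := by
  intro i
  have hm : FreeGroup.of i ^ ord i ∈ relSet 3 relWords := by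
    show _ ∈ relWords.map (word 3)
    revert i; decide +kernel
  rw [PresentedGroup.of, ← map_pow]
  exact PresentedGroup.one_of_mem hm

theorem σ_isStem : Cfsg.IsStemExtension σ :=
  ⟨σ_surjective, ker_cyclic.2, ker_le_commutator σ ord gen_pow_P fun i => by
    rw [Nat.card_congr ker_cyclic.1.some.toEquiv, Nat.card_eq_fintype_card]
    revert i; decide⟩

theorem multiplier : Cfsg.HasCyclicSchurMultiplier ↥Spor.M22 12 :=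
  hasSchurMultiplier_of_universal σ σ_isStem ker_cyclic.1.some (MulEquiv.refl _) fun _ _ _ τ hτ =>
    map_ker_surjective gen ord [] relWords valid gen_pow gen_rels (by simp) σ_surjective τ hτ
      fun i => by
        haveI : Finite ↥Spor.M22 := Nat.finite_of_card_ne_zero (by rw [card_spor_M22]; norm_num)
        refine coprime_ker_of_sq_not_dvd τ hτ (by fin_cases i <;> norm_num [ord]) ?_
        rw [card_spor_M22]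
        revert i; decide

end Cfsg.Agent.Lib.ExactCover.M22
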