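import Cfsg.Agent.Lib.ExactCover.Std
import Cfsg.Agent.Lib.Multiplier.Sylow

/-!
Covers given by exact relators.

If the generators of a finite group `G` have orders prime to the multiplier, they have unique
lifts of the same orders to every stem extension, and every identity `u x^k u⁻¹ y^j = 1` between
powers of two generators of the same order holds for these lifts. A presented group on such
relators and commutators with central words therefore maps to every stem extension.
-/

set_option autoImplicit false
set_option linter.style.haveILetI false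

namespace Cfsg.Agent.Lib.ExactCover

open Cfsg.Agent.Lib.CosetEnum

universe u v

/-- Where a relator comes from. -/
inductive Origin where
  /-- the power relator of a generator -/
  | pow (i : ℕ)
  /-- a conjugate of `(u x^k u⁻¹ y^j)^(±1)`, for letters `x`, `y` of the same order -/
  | exact (c : List ℕ) (neg : Bool) (u : List ℕ) (x k y j : ℕ)
  /-- a conjugate of the commutator of a central word with a letter -/
  | central (c z : List ℕ) (g : ℕ)
deriving Repr

variable {n : ℕ} [NeZero n]

/-- The relator of an origin. -/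
def Origin.rel (ord : Fin n → ℕ) : Origin → FreeGroup (Fin n)
  | .pow i => word n [2 * i] ^ ord (Fin.ofNat n i)
  | .exact c neg u x k y j =>
      word n c *
        (if neg then (word n u * word n [x] ^ k * (word n u)⁻¹ * word n [y] ^ j)⁻¹
         else word n u * word n [x] ^ k * (word n u)⁻¹ * word n [y] ^ j) * (word n c)⁻¹
  | .central c z g =>
      word n c * (word n z * word n [g] * (word n z)⁻¹ * (word n [g])⁻¹) * (word n c)⁻¹

/-- The side conditions of an origin; `ZS` lists the central words. -/
def Origin.ok (ord : Fin n → ℕ) (ZS : List (List ℕ)) : Origin → Prop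
  | .pow i => i < n
  | .exact _ _ _ x _ y _ => x < 2 * n ∧ y < 2 * n ∧ ord (Fin.ofNat n (x / 2)) = ord (Fin.ofNat n (y / 2))
  | .central _ z _ => z ∈ ZS

instance decidableOk (ord : Fin n → ℕ) (ZS : List (List ℕ)) (o : Origin) : Decidable (o.ok ord ZS) := by
  cases o <;> simp only [Origin.ok] <;> infer_instance

/-- A certificate that every relator is of one of the allowed forms. -/
def Valid (ord : Fin n → ℕ) (ZS : List (List ℕ)) (R : List (List ℕ)) (O : List Origin) : Prop :=
  R.map (word n) = O.map (Origin.rel ord) ∧ ∀ o ∈ O, o.ok ord ZS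

instance decidableValid (ord : Fin n → ℕ) (ZS : List (List ℕ)) (R : List (List ℕ)) (O : List Origin) :
    Decidable (Valid ord ZS R O) := by
  unfold Valid; infer_instance

theorem lift_word_pow {Γ : Type*} [Group Γ] (f : Fin n → Γ) (ord : Fin n → ℕ)
    (hf : ∀ i, f i ^ ord i = 1) (g : ℕ) :
    FreeGroup.lift f (word n [g]) ^ ord (Fin.ofNat n (g / 2)) = 1 := by
  simp only [word, List.map_cons, List.map_nil, stdSym, FreeGroup.lift_mk, List.prod_cons, List.prod_nil,
    mul_one]
  rcases Nat.mod_two_eq_zero_or_one g with h | h <;> simp [h, inv_pow, hf]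

/-- Lifts of the generators of the same orders. -/
theorem exists_lift {G : Type v} [Group G] {Γ : Type u} [Group Γ] [Finite Γ] (τ : Γ →* G)
    (hτ : Cfsg.IsStemExtension τ) (g : G) (o : ℕ) (ho : o.Coprime (Nat.card τ.ker)) (hg : g ^ o = 1) :
    ∃ x : Γ, τ x = g ∧ x ^ o = 1 := by
  obtain ⟨x, rfl⟩ := hτ.1 g
  let k : τ.ker := ⟨x ^ o, by rw [MonoidHom.mem_ker, map_pow, hg]⟩
  let w : τ.ker := (powCoprime ho.symm).symm k
  have hwo : w ^ o = k := (powCoprime ho.symm).apply_symm_apply k
  refine ⟨x * (w : Γ)⁻¹, by rw [map_mul, map_inv, MonoidHom.mem_ker.1 w.2, inv_one, mul_one], ?_⟩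
  have hc : Commute x (w : Γ)⁻¹ := Subgroup.mem_center_iff.1 (inv_mem (hτ.2.1 w.2)) x
  rw [hc.mul_pow, inv_pow, ← SubmonoidClass.coe_pow, hwo]
  exact mul_inv_cancel (x ^ o)

variable {G : Type v} [Group G] (gen : Fin n → G) (ord : Fin n → ℕ) (ZS R : List (List ℕ))

/-- The presented group maps to every stem extension. -/
theorem exists_map {O : List Origin} (hV : Valid ord ZS R O) (hord : ∀ i, gen i ^ ord i = 1)
    (hR : ∀ r ∈ relSet n R, FreeGroup.lift gen r = 1)
    (hZ : ∀ z ∈ ZS, FreeGroup.lift gen (word n z) = 1)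
    {Γ : Type u} [Group Γ] [Finite Γ] (τ : Γ →* G) (hτ : Cfsg.IsStemExtension τ)
    (hcop : ∀ i, (ord i).Coprime (Nat.card τ.ker)) :
    ∃ φ : PresentedGroup (relSet n R) →* Γ, τ.comp φ = PresentedGroup.toGroup hR := by
  choose f hf hfo using fun i => exists_lift τ hτ (gen i) (ord i) (hcop i) (hord i)
  have hτf : τ.comp (FreeGroup.lift f) = FreeGroup.lift gen := by
    apply FreeGroup.ext_hom
    intro i
    simp [hf]
  have hτf' : ∀ w, τ (FreeGroup.lift f w) = FreeGroup.lift gen w := DFunLike.congr_fun hτf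
  have hrel : ∀ r ∈ relSet n R, FreeGroup.lift f r = 1 := by
    intro r hr
    have h1 : FreeGroup.lift gen r = 1 := hR r hr
    have hr' : r ∈ O.map (Origin.rel ord) := by rw [← hV.1]; exact hr
    obtain ⟨o, ho, rfl⟩ := List.mem_map.1 hr'
    have hok := hV.2 o ho
    cases o with
    | pow i =>
      show FreeGroup.lift f (word n [2 * i] ^ ord (Fin.ofNat n i)) = 1
      rw [map_pow]
      have := lift_word_pow f ord hfo (2 * i)
      rwa [show 2 * i / 2 = i by omega] at this
    | «exact» c neg u x k y j =>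
      obtain ⟨-, -, hxy⟩ := hok
      simp only [Origin.rel] at h1 ⊢
      set E := word n u * word n [x] ^ k * (word n u)⁻¹ * word n [y] ^ j with hE
      have hτE : τ (FreeGroup.lift f E) = 1 := by
        rw [hτf']
        cases neg <;> simp only [if_true, Bool.false_eq_true, if_false, map_mul, map_inv] at h1 <;>
        · have := conj_eq_one_iff.1 h1
          simpa using this
      set o := ord (Fin.ofNat n (x / 2)) with ho'
      have hX : FreeGroup.lift f (word n [x]) ^ o = 1 := lift_word_pow f ord hfo x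
      have hY : FreeGroup.lift f (word n [y]) ^ o = 1 := by rw [hxy]; exact lift_word_pow f ord hfo y
      have hcE : FreeGroup.lift f E ∈ Subgroup.center Γ := hτ.2.1 (MonoidHom.mem_ker.2 hτE)
      have ha : (FreeGroup.lift f (word n u * word n [x] ^ k * (word n u)⁻¹)) ^ o = 1 := by
        simp only [map_mul, map_inv, map_pow]
        rw [conj_pow, ← pow_mul, mul_comm k, pow_mul, hX, one_pow, mul_one, mul_inv_cancel]
      have hb : (FreeGroup.lift f (word n [y] ^ j)) ^ o = 1 := by
        rw [map_pow, ← pow_mul, mul_comm j, pow_mul, hY, one_pow]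
      have hsplit : FreeGroup.lift f (word n u * word n [x] ^ k * (word n u)⁻¹) =
          FreeGroup.lift f E * (FreeGroup.lift f (word n [y] ^ j))⁻¹ := by
        rw [eq_mul_inv_iff_mul_eq, ← map_mul, hE]
      rw [hsplit, Commute.mul_pow (Subgroup.mem_center_iff.1 hcE _).symm, inv_pow, hb, inv_one,
        mul_one] at ha
      have hk : FreeGroup.lift f E = 1 := by
        have h2 : FreeGroup.lift f E ^ Nat.card τ.ker = 1 := congrArg Subtype.val
          (pow_card_eq_one' (x := (⟨FreeGroup.lift f E, MonoidHom.mem_ker.2 hτE⟩ : τ.ker)))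
        have := pow_gcd_eq_one.2 ⟨ha, h2⟩
        rwa [(hcop (Fin.ofNat n (x / 2))).gcd_eq_one, pow_one] at this
      cases neg <;> simp [hk]
    | central c z g =>
      have hz : FreeGroup.lift f (word n z) ∈ Subgroup.center Γ := hτ.2.1 (by
        rw [MonoidHom.mem_ker, hτf', hZ z hok])
      simp only [Origin.rel, map_mul, map_inv]
      rw [← Subgroup.mem_center_iff.1 hz (FreeGroup.lift f (word n [g]))]
      group
  refine ⟨PresentedGroup.toGroup hrel, PresentedGroup.ext fun i => ?_⟩
  simp [hf]

/-- A surjection of the cover's kernel onto the kernel of a stem extension. -/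
theorem map_ker_surjective {O : List Origin} (hV : Valid ord ZS R O) (hord : ∀ i, gen i ^ ord i = 1)
    (hR : ∀ r ∈ relSet n R, FreeGroup.lift gen r = 1)
    (hZ : ∀ z ∈ ZS, FreeGroup.lift gen (word n z) = 1)
    (hsurj : Function.Surjective (PresentedGroup.toGroup hR))
    {Γ : Type u} [Group Γ] [Finite Γ] (τ : Γ →* G) (hτ : Cfsg.IsStemExtension τ)
    (hcop : ∀ i, (ord i).Coprime (Nat.card τ.ker)) :
    ∃ π : (PresentedGroup.toGroup hR).ker →* τ.ker, Function.Surjective π := by
  obtain ⟨φ, hφ⟩ := exists_map gen ord ZS R hV hord hR hZ τ hτ hcop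
  set σ := PresentedGroup.toGroup hR
  have hφ' : ∀ p, τ (φ p) = σ p := DFunLike.congr_fun hφ
  have hsup : φ.range ⊔ τ.ker = ⊤ := by
    rw [eq_top_iff]
    rintro g -
    obtain ⟨p, hp⟩ := hsurj (τ g)
    have hk : (φ p)⁻¹ * g ∈ τ.ker := by
      rw [MonoidHom.mem_ker, map_mul, map_inv, hφ', hp, inv_mul_cancel]
    rw [show g = φ p * ((φ p)⁻¹ * g) by group]
    exact Subgroup.mul_mem_sup ⟨p, rfl⟩ hk
  have hle : τ.ker ≤ φ.range := by
    refine le_trans hτ.2.2 (le_trans (Multiplier.commutator_le_of_sup_central _ _ hτ.2.1 hsup) ?_)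
    rw [Subgroup.commutator_le]
    intro g hg g' hg'
    exact mul_mem (mul_mem (mul_mem hg hg') (inv_mem hg)) (inv_mem hg')
  refine ⟨(φ.domRestrict σ.ker).codRestrict τ.ker (fun p => ?_), ?_⟩
  · rw [MonoidHom.mem_ker]
    show τ (φ p.1) = 1
    rw [hφ']; exact p.2
  · rintro ⟨k, hk⟩
    obtain ⟨p, rfl⟩ := hle hk
    exact ⟨⟨p, by rw [MonoidHom.mem_ker, ← hφ']; exact hk⟩, rfl⟩

/-- The multiplier of every group isomorphic to `G`, from a stem extension `σ` that covers all
stem extensions of `G`. -/
theorem hasSchurMultiplier_of_universal {P : Type} [Group P] [Finite P] (σ : P →* G)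
    (hσ : Cfsg.IsStemExtension σ) {A : Type*} [CommGroup A] (k : σ.ker ≃* A)
    {H : Type u} [Group H] (e : G ≃* H)
    (huniv : ∀ (Γ : Type u) [Group Γ] [Finite Γ] (τ : Γ →* G), Cfsg.IsStemExtension τ →
      ∃ π : σ.ker →* τ.ker, Function.Surjective π) :
    Cfsg.HasSchurMultiplier H A := by
  refine ⟨?_, fun Γ _ _ τ hτ => ?_⟩
  · let j : ULift.{u} P ≃* P := MulEquiv.ulift
    let s : ULift.{u} P →* H := e.toMonoidHom.comp (σ.comp j.toMonoidHom)
    have hmem : ∀ x, x ∈ s.ker ↔ j x ∈ σ.ker := fun x => by
      rw [MonoidHom.mem_ker, MonoidHom.mem_ker]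
      exact e.map_eq_one_iff
    haveI : Finite (ULift.{u} P) := Finite.of_equiv _ j.symm.toEquiv
    refine ⟨ULift.{u} P, inferInstance, inferInstance, s, ⟨?_, ?_, ?_⟩, ⟨?_⟩⟩
    · exact e.surjective.comp (hσ.1.comp j.surjective)
    · intro x hx
      rw [Subgroup.mem_center_iff]
      exact fun y => j.injective (by
        rw [map_mul, map_mul]
        exact Subgroup.mem_center_iff.1 (hσ.2.1 ((hmem x).1 hx)) (j y))
    · intro x hx
      have hmap : Subgroup.map j.symm.toMonoidHom (commutator P) ≤ commutator (ULift.{u} P) := by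
        rw [_root_.commutator_def, _root_.commutator_def, Subgroup.map_commutator]
        exact Subgroup.commutator_mono le_top le_top
      exact hmap ⟨j x, hσ.2.2 ((hmem x).1 hx), j.symm_apply_apply x⟩
    · refine MulEquiv.trans ?_ k
      exact
        { toFun := fun x => ⟨j x.1, (hmem x.1).1 x.2⟩
          invFun := fun y => ⟨j.symm y.1, (hmem _).2 (by rw [j.apply_symm_apply]; exact y.2)⟩
          left_inv := fun x => Subtype.ext (j.symm_apply_apply _)
          right_inv := fun y => Subtype.ext (j.apply_symm_apply _)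
          map_mul' := fun x y => Subtype.ext (map_mul j _ _) }
  · have hker : (e.symm.toMonoidHom.comp τ).ker = τ.ker := by
      ext x; simp [MonoidHom.mem_ker]
    have hst : Cfsg.IsStemExtension (e.symm.toMonoidHom.comp τ) :=
      ⟨e.symm.surjective.comp hτ.1, hker ▸ hτ.2.1, hker ▸ hτ.2.2⟩
    obtain ⟨p, hp⟩ := huniv Γ _ hst
    exact ⟨((MulEquiv.subgroupCongr hker).toMonoidHom.comp p).comp k.symm.toMonoidHom,
      ((MulEquiv.subgroupCongr hker).surjective.comp hp).comp k.symm.surjective⟩

end Cfsg.Agent.Lib.ExactCover
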